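import Mathlib.CategoryTheory.Monoidal.Cartesian.Over
import Mathlib.CategoryTheory.Monoidal.Cartesian.Grp
import Mathlib.AlgebraicGeometry.Pullbacks

/-!
# The kernel pair of a homomorphism of group objects is a trivial torsor under the kernel
-/

set_option autoImplicit false
universe v u
open CategoryTheory CategoryTheory.Limits MonoidalCategory CartesianMonoidalCategory MonObj GrpObj

namespace K450.KerTors

section

variable {C : Type u} [Category.{v} C] [CartesianMonoidalCategory C]
variable {X Y N : C} [GrpObj X] [GrpObj Y] (f : X ⟶ Y) (j : N ⟶ X)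

theorem isPullback [IsMonHom f] (hN : IsPullback j (toUnit N) f η[Y]) :
    IsPullback (fst X N) (fst X N * (snd X N ≫ j)) f f := by
  have hj : j ≫ f = 1 := by
    rw [hN.w]
    rfl
  refine ⟨⟨?_⟩, ⟨PullbackCone.IsLimit.mk _ (fun s => lift s.fst (hN.lift (s.fst⁻¹ * s.snd) (toUnit _) ?_)) ?_ ?_ ?_⟩⟩
  · rw [MonObj.mul_comp, Category.assoc, hj, comp_one, _root_.mul_one]
  · rw [MonObj.mul_comp, GrpObj.inv_comp, s.condition, inv_mul_cancel]
    rfl
  · intro s
    simp
  · intro s
    rw [comp_mul, lift_fst, ← Category.assoc, lift_snd, hN.lift_fst, mul_inv_cancel_left]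
  · intro s m h1 h2
    refine CartesianMonoidalCategory.hom_ext _ _ (by rw [h1, lift_fst]) ?_
    rw [lift_snd]
    apply hN.hom_ext
    · rw [hN.lift_fst, ← h2, comp_mul, ← h1, inv_mul_cancel_left, Category.assoc]
    · exact toUnit_unique _ _

/-- Making a morphism pointed by a translation. -/
def pointed : X ⟶ Y := f * (toUnit X ≫ (η[X] ≫ f)⁻¹)

theorem eta_pointed : η[X] ≫ pointed f = η[Y] := by
  rw [pointed, comp_mul, ← Category.assoc, toUnit_unique (η[X] ≫ toUnit X) (𝟙 _), Category.id_comp, mul_inv_cancel]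
  rw [Hom.one_def, toUnit_unique (toUnit (𝟙_ C)) (𝟙 _), Category.id_comp]

theorem comp_pointed {T : C} (a : T ⟶ X) : a ≫ pointed f = (a ≫ f) * (toUnit T ≫ (η[X] ≫ f)⁻¹) := by
  rw [pointed, comp_mul, ← Category.assoc, comp_toUnit]

theorem comp_pointed_inj {T : C} (a b : T ⟶ X) : a ≫ pointed f = b ≫ pointed f ↔ a ≫ f = b ≫ f := by
  rw [comp_pointed, comp_pointed, mul_left_inj]

theorem isPullback_of_pointed {P : C} (a b : P ⟶ X) (h : IsPullback a b (pointed f) (pointed f)) :
    IsPullback a b f f := by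
  refine ⟨⟨(comp_pointed_inj f _ _).mp h.w⟩, ⟨PullbackCone.IsLimit.mk _
    (fun s => h.lift s.fst s.snd ((comp_pointed_inj f _ _).mpr s.condition)) ?_ ?_ ?_⟩⟩
  · intro s
    exact h.lift_fst _ _ _
  · intro s
    exact h.lift_snd _ _ _
  · intro s m h1 h2
    apply h.hom_ext
    · rw [h1, h.lift_fst]
    · rw [h2, h.lift_snd]

theorem isPullback_pointed (hN : IsPullback j (toUnit N) f (η[X] ≫ f)) :
    IsPullback j (toUnit N) (pointed f) η[Y] := by
  have key : ∀ {T : C} (a : T ⟶ X), a ≫ pointed f = toUnit T ≫ η[Y] ↔ a ≫ f = toUnit T ≫ η[X] ≫ f := by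
    intro T a
    have h1 : toUnit T ≫ η[Y] = 1 := rfl
    rw [comp_pointed, h1, GrpObj.comp_inv, mul_inv_eq_one]
  refine ⟨⟨(key j).mpr hN.w⟩, ⟨PullbackCone.IsLimit.mk _ (fun s => hN.lift s.fst s.snd ?_) ?_ ?_ ?_⟩⟩
  · have h1 := s.condition
    rw [toUnit_unique s.snd (toUnit _)] at h1 ⊢
    exact (key _).mp h1
  · intro s
    exact hN.lift_fst _ _ _
  · intro s
    exact toUnit_unique _ _
  · intro s m h1 h2
    apply hN.hom_ext
    · rw [h1, hN.lift_fst]
    · exact toUnit_unique _ _

/-- The kernel pair of a morphism `f : X ⟶ Y` of groups, some translate of which is a homomorphism, is the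
product of `X` with the fibre of `f` through the unit. -/
theorem isPullback_of_fibre [IsMonHom (pointed f)] (hN : IsPullback j (toUnit N) f (η[X] ≫ f)) :
    IsPullback (fst X N) (fst X N * (snd X N ≫ j)) f f :=
  isPullback_of_pointed f _ _ (isPullback (pointed f) j (isPullback_pointed f j hN))

end

end K450.KerTors
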