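import Groth.Agent.AbSch.K450.EulerPull
import Groth.Agent.AbSch.K450.KerTors
import Groth.Agent.PerfB.PushFLF
import Groth.Agent.Krr.H463.SpecField
import Groth.Agent.Grpsch.FieldDim
import Mathlib.AlgebraicGeometry.Morphisms.FlatRank

/-!
# Euler characteristic of the pullback along a finite flat morphism which is a torsor

`f : X ⟶ Y` a finite flat surjective morphism of proper `k`-schemes such that the first projection
`p₁ : X ×_Y X ⟶ X` is the base change of a finite `k`-scheme `q : N ⟶ Spec k`. Then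
`χ(X, f^* F) = [N : k] χ(Y, F)` for all coherent `F`.
-/

set_option autoImplicit false
universe u
open CategoryTheory CategoryTheory.Limits AlgebraicGeometry Opposite TopologicalSpace

namespace K450.EulerTors

open Groth.Agent

variable (k : Type u) [Field k]

theorem euler_freeMod (X : Scheme.{u}) [X.Over (Spec (CommRingCat.of k))]
    [IsProper (X ↘ (Spec (CommRingCat.of k)))] (m : ℕ) :
    Curv2.euler k X (FlatMod.freeMod X m) = m * Curv2.euler k X (Coh.structureModule X) := by
  rw [← Krr.H463.ChiHom.chi_cl k _ (Sga67.PushTwist.isFinLocFree_freeMod _ m)]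
  have h := Sga67.PushTwist.c_freeMod (S := X) m
  change KRR.cl _ (FlatMod.freeMod _ m) = m • KRR.cl _ (Coh.structureModule _) at h
  rw [h, map_nsmul, Krr.H463.ChiHom.chi_cl k _ Sga67.TensorOps.isFinLocFree_structureModule, nsmul_eq_mul]

section Rank

variable {N : Scheme.{u}} (q : N ⟶ Spec (CommRingCat.of k)) [IsFinite q]

omit [IsFinite q] in
theorem flat_spec_field : Flat q := Groth.Agent.Grpsch.FieldDim.flat_to_field (Iso.refl _) q

theorem finrank_eq_finrank_top (x : ↥(Spec (CommRingCat.of k))) :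
    letI : N.Over (Spec (CommRingCat.of k)) := ⟨q⟩
    letI := CurvesC.CurveNum.topMod k N
    q.finrank x = Module.finrank k (Coh.Γtop N) := by
  let : N.Over (Spec (CommRingCat.of k)) := ⟨q⟩
  have haff : IsAffine N := isAffine_of_isAffineHom q
  let : Algebra k Γ(N, ⊤) := (Coh.toGlobal q).toAlgebra
  have hq : N.isoSpec.hom ≫ Spec.map (CommRingCat.ofHom (algebraMap k Γ(N, ⊤))) = q := by
    have h1 : CommRingCat.ofHom (algebraMap k Γ(N, ⊤)) = (Scheme.ΓSpecIso (CommRingCat.of k)).inv ≫ q.appTop := rfl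
    rw [h1, Spec.map_comp, ← Category.assoc, Scheme.isoSpec_hom_naturality, Category.assoc]
    have h2 : (Spec (CommRingCat.of k)).isoSpec.hom ≫ Spec.map (Scheme.ΓSpecIso (CommRingCat.of k)).inv = 𝟙 _ := by
      rw [Scheme.isoSpec_Spec_hom, ← Spec.map_comp, Iso.inv_hom_id, Spec.map_id]
    rw [h2, Category.comp_id]
  have hfin : IsFinite (Spec.map (CommRingCat.ofHom (algebraMap k Γ(N, ⊤)))) := by
    rw [← Iso.eq_inv_comp] at hq
    rw [hq]
    infer_instance
  have hfin' : Module.Finite k Γ(N, ⊤) := by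
    rw [IsFinite.SpecMap_iff] at hfin
    exact hfin
  have h1 : q.finrank x = (Spec.map (CommRingCat.ofHom (algebraMap k Γ(N, ⊤)))).finrank x := by
    conv_lhs => rw [← hq]
    have : Flat (Spec.map (CommRingCat.ofHom (algebraMap k Γ(N, ⊤)))) := flat_spec_field k _
    rw [Scheme.Hom.finrank_comp_left_of_isIso]
  rw [h1]
  refine (Scheme.Hom.finrank_SpecMap_algebraMap k Γ(N, ⊤) x).trans ?_
  rw [Module.rankAtStalk_eq_finrank_of_free]
  rfl

theorem exists_rank_eq :
    ∃ m : ℕ, Nonempty ((Scheme.Modules.pushforward q).obj (Coh.structureModule N) ≅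
      FlatMod.freeMod (Spec (CommRingCat.of k)) m) ∧ ∀ x, q.finrank x = m := by
  have := flat_spec_field k q
  have hpr : IsProper q := inferInstance
  let : N.Over (Spec (CommRingCat.of k)) := ⟨q⟩
  have hfp : LocallyOfFinitePresentation q := inferInstance
  obtain ⟨m, -, e⟩ := Krr.H463.SpecField.exists_rank k
    (PerfB.PushFLF.isFinLocFree_pushforward q (E := Coh.structureModule N)
      Sga67.TensorOps.isFinLocFree_structureModule)
  refine ⟨m, e, fun x => ?_⟩
  have h1 := Krr.H463.SpecField.euler_of_iso_free k m e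
  rw [Krr.H463.SpecField.euler_eq] at h1
  have h2 := Krr.H463.SpecField.finrank_H0_push k (P := N) (Coh.structureModule N)
  let _ := CurvesC.CurveNum.topMod k N
  have h3 := (CurvesC.CurveNum.hZeroTop k N).finrank_eq
  have h4 := finrank_eq_finrank_top k q x
  rw [h4, ← h3, ← h2]
  exact_mod_cast h1

end Rank

section Main

variable {X Y N P : Scheme.{u}} [X.Over (Spec (CommRingCat.of k))] [Y.Over (Spec (CommRingCat.of k))]
  [IsProper (X ↘ (Spec (CommRingCat.of k)))] [IsProper (Y ↘ (Spec (CommRingCat.of k)))]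
  (f : X ⟶ Y) [IsFinite f] [Flat f]
  (hf : f ≫ (Y ↘ (Spec (CommRingCat.of k))) = X ↘ (Spec (CommRingCat.of k)))
  {p₁ p₂ : P ⟶ X} (h : IsPullback p₁ p₂ f f)
  (q : N ⟶ Spec (CommRingCat.of k)) [IsFinite q] {r : P ⟶ N}
  (h' : IsPullback r p₁ q (X ↘ (Spec (CommRingCat.of k))))

theorem unit_push_pull (m : ℕ) (e : Nonempty ((Scheme.Modules.pushforward q).obj (Coh.structureModule N) ≅
      FlatMod.freeMod (Spec (CommRingCat.of k)) m)) {W W' : Scheme.{u}} (s : W ⟶ Spec (CommRingCat.of k))
    (a : W' ⟶ W) (b : W' ⟶ N) (hW : IsPullback b a q s) :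
    Nonempty ((Coh.push a).obj (Coh.structureModule W') ≅ FlatMod.freeMod W m) := by
  obtain ⟨e⟩ := e
  have : Coh.IsQCoh (Coh.structureModule N) := CurvesC.UnitCoh.isQCoh_unit _
  obtain ⟨e1⟩ := S0017.result q s b a hW (Coh.structureModule N)
  exact ⟨(Coh.push a).mapIso (PerfB.FlatPull.pullbackUnit b).symm ≪≫ e1.symm ≪≫
    (Scheme.Modules.pullback s).mapIso e ≪≫ PerfB.FlatPull.pullbackFreeMod s m⟩

omit [Flat f] in
include hf h h' in
/-- The value of `F ↦ χ(X, f^* F) - m χ(Y, F)` on the direct image of the structure sheaf. -/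
theorem euler_pull_push (m : ℕ) (e : Nonempty ((Scheme.Modules.pushforward q).obj (Coh.structureModule N) ≅
      FlatMod.freeMod (Spec (CommRingCat.of k)) m)) {W : Scheme.{u}} (i : W ⟶ X) [IsFinite i] :
    Curv2.euler k X ((Scheme.Modules.pullback f).obj ((Coh.push (i ≫ f)).obj (Coh.structureModule W))) =
      m * Curv2.euler k Y ((Coh.push (i ≫ f)).obj (Coh.structureModule W)) := by
  let W' : Scheme.{u} := pullback i p₁
  let a : W' ⟶ W := pullback.fst i p₁
  let b : W' ⟶ P := pullback.snd i p₁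
  have hb : IsPullback a b i p₁ := IsPullback.of_hasPullback i p₁
  have h1 : IsPullback (b ≫ p₂) a f (i ≫ f) := IsPullback.paste_horiz hb.flip h.flip
  have h2 : IsPullback (b ≫ r) a q (i ≫ (X ↘ (Spec (CommRingCat.of k)))) := IsPullback.paste_horiz hb.flip h'
  have ha : IsFinite a := MorphismProperty.of_isPullback h2 inferInstance
  have hbp : IsFinite (b ≫ p₂) := MorphismProperty.of_isPullback h1.flip inferInstance
  let _ : W.Over (Spec (CommRingCat.of k)) := ⟨i ≫ (X ↘ (Spec (CommRingCat.of k)))⟩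
  let _ : W'.Over (Spec (CommRingCat.of k)) := ⟨a ≫ i ≫ (X ↘ (Spec (CommRingCat.of k)))⟩
  have hW : IsProper (W ↘ (Spec (CommRingCat.of k))) :=
    inferInstanceAs (IsProper (i ≫ (X ↘ (Spec (CommRingCat.of k)))))
  have hW' : IsProper (W' ↘ (Spec (CommRingCat.of k))) :=
    inferInstanceAs (IsProper (a ≫ i ≫ (X ↘ (Spec (CommRingCat.of k)))))
  have : Coh.IsQCoh (Coh.structureModule W) := CurvesC.UnitCoh.isQCoh_unit _
  have : Coh.IsQCoh (Coh.structureModule W') := CurvesC.UnitCoh.isQCoh_unit _
  obtain ⟨e1⟩ := S0017.result (i ≫ f) f a (b ≫ p₂) h1.flip (Coh.structureModule W)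
  obtain ⟨e2⟩ := unit_push_pull k q m e (i ≫ (X ↘ (Spec (CommRingCat.of k)))) a (b ≫ r) h2
  have e3 := e1 ≪≫ (Coh.push (b ≫ p₂)).mapIso (PerfB.FlatPull.pullbackUnit a)
  rw [Fga.HodgePush.euler_congr k X e3,
    ← Fga.HodgePush.euler_push k X W' (b ≫ p₂) ?_ (Coh.structureModule W') (CurvesC.UnitCoh.isCoh_unit _)
      (Fga.HodgePush.acyc_of_isAffineHom _ inferInstance),
    Fga.HodgePush.euler_push k W W' a rfl (Coh.structureModule W') (CurvesC.UnitCoh.isCoh_unit _)
      (Fga.HodgePush.acyc_of_isAffineHom _ inferInstance),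
    Fga.HodgePush.euler_congr k W e2, euler_freeMod,
    ← Fga.HodgePush.euler_push k Y W (i ≫ f) ?_ (Coh.structureModule W) (CurvesC.UnitCoh.isCoh_unit _)
      (Fga.HodgePush.acyc_of_isAffineHom _ inferInstance)]
  · rw [Category.assoc, hf]
    rfl
  · change (b ≫ p₂) ≫ (X ↘ (Spec (CommRingCat.of k))) = a ≫ i ≫ (X ↘ (Spec (CommRingCat.of k)))
    rw [← hf, ← Category.assoc a, hb.w]
    simp only [Category.assoc]
    rw [← Category.assoc p₂, ← h.w, Category.assoc]

include hf h h' in
theorem euler_pullback (m : ℕ) (e : Nonempty ((Scheme.Modules.pushforward q).obj (Coh.structureModule N) ≅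
      FlatMod.freeMod (Spec (CommRingCat.of k)) m)) [Surjective f] (F : Y.Modules) (hF : Coh.IsCoh F) :
    Curv2.euler k X ((Scheme.Modules.pullback f).obj F) = m * Curv2.euler k Y F := by
  have nY : IsNoetherian Y := EulerPull.isNoetherian k Y
  have nX : IsNoetherian X := EulerPull.isNoetherian k X
  suffices hs : Curv2.euler k X ((Scheme.Modules.pullback f).obj F) - m * Curv2.euler k Y F = 0 by omega
  refine EulerPull.eq_zero_of_isAdd (fun F => Curv2.euler k X ((Scheme.Modules.pullback f).obj F) -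
    m * Curv2.euler k Y F) ?_ ?_ F hF
  · intro S hS h1 h2 h3
    have a1 := EulerPull.isAdd_euler k (X := Y) S hS h1 h2 h3
    have a2 := EulerPull.isAdd_euler k (X := X) (S.map (Scheme.Modules.pullback f))
      (hS.map_of_exact (Scheme.Modules.pullback f)) (FormalB.PullCoh.isCoh_pullback f h1)
      (FormalB.PullCoh.isCoh_pullback f h2) (FormalB.PullCoh.isCoh_pullback f h3)
    change Curv2.euler k X ((Scheme.Modules.pullback f).obj S.X₂) =
      Curv2.euler k X ((Scheme.Modules.pullback f).obj S.X₁) +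
        Curv2.euler k X ((Scheme.Modules.pullback f).obj S.X₃) at a2
    dsimp only
    rw [a1, a2]
    ring
  · intro y
    obtain ⟨x, rfl⟩ := f.surjective y
    obtain ⟨W, i, hi, hWi, hr⟩ := CohqB.DevGeom.exists_integral (closure {x}) isClosed_closure
      isIrreducible_singleton.closure
    have hx : i (genericPoint W) = x := by
      have h1 := CohqB.DevGeom.closure_image_genericPoint i
      rw [hr] at h1
      exact (inseparable_iff_closure_eq.mpr h1).eq
    have hy : closure (Set.range (i ≫ f)) = closure {f x} := by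
      rw [EulerPull.closure_range_eq, Scheme.Hom.comp_apply, hx]
    refine ⟨(Coh.push (i ≫ f)).obj (Coh.structureModule W), ?_, ?_, ?_, ?_⟩
    · exact Fga.HodgePush.isCoh_push (i ≫ f) (CurvesC.UnitCoh.isCoh_unit _)
    · rw [← hy]
      exact EulerPull.support_push_subset _ _
    · have h2 := EulerPull.mem_support_push (i ≫ f)
      rwa [Scheme.Hom.comp_apply, hx] at h2
    · rw [euler_pull_push k f hf h q h' m e i, sub_self]

end Main

end K450.EulerTors
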