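import Groth.Agent.AbSch.K450.RRPoly
import Groth.Agent.S7859
import Groth.Agent.S1842
import Groth.Agent.S1844
import Groth.Agent.S3230
import Groth.Agent.Fga.EulerLEAdd
import Groth.Agent.Fga.SnapperTwist
import Groth.Agent.Fga.HodgeAsm
import Groth.Agent.Grpsch.PicGrp
import Groth.Agent.CycB.DegCurve

/-!
# Riemann-Roch for abelian varieties
-/

set_option autoImplicit false
universe u
open CategoryTheory CategoryTheory.Limits MonObj AlgebraicGeometry

namespace K450.RRChi

open Groth.Agent Groth.Agent.Fga.PicMon Groth.Agent.Ega2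

open Groth.Agent.Grpsch.PicGrp in
/-- The pullback of a tensor power. -/
theorem nonempty_pull_tensorPow {X Y : Scheme.{u}} (f : X ⟶ Y) {L : Y.Modules} (hL : PicF.IsInvertible L) (n : ℕ) :
    Nonempty ((Scheme.Modules.pullback f).obj (CohB1.tensorPow L n) ≅
      CohB1.tensorPow ((Scheme.Modules.pullback f).obj L) n) := by
  have hfL := Fdesc.LocGen.isInvertible_pullback f hL
  have h1 := mk_tensorPow hL n
  have h2 := mk_tensorPow hfL n
  rw [← mk_eq_iff (Fdesc.LocGen.isInvertible_pullback f (Fdesc.LocGen.isInvertible_tensorPow hL n))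
    (Fdesc.LocGen.isInvertible_tensorPow hfL n), h2, ← pull_mk f (Fdesc.LocGen.isInvertible_tensorPow hL n), h1,
    map_pow, pull_mk]

section

variable (k : Type u) [Field k] (X : Over (Spec (CommRingCat.of k)))
  [GrpObj X] [IsProper X.hom] [GeometricallyIntegral X.hom] (g : ℕ)

/-- The Euler characteristic of a class of modules. -/
noncomputable abbrev chi : MC X.left → ℤ := @chiCl k _ X.left ⟨X.hom⟩ g (Coh.structureModule X.left)

omit [GrpObj X] [GeometricallyIntegral X.hom] in
theorem chi_mc (hg : topologicalKrullDim ↥X.left = g) (L : X.left.Modules) :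
    chi k X g (mc L) = @Curv2.euler k _ X.left ⟨X.hom⟩ L := by
  let _ : X.left.Over (Spec (CommRingCat.of k)) := ⟨X.hom⟩
  have hp : IsProper (X.left ↘ (Spec (CommRingCat.of k))) := inferInstanceAs (IsProper X.hom)
  have := K450.EulerPull.isNoetherian k X.left
  rw [chi, chiCl_mc, Fga.EulerLEAdd.eulerCharLE_eq_euler k X.left g hg.le]
  exact Fga.HodgePush.euler_congr k X.left (Tens.runit L)

/-- The effect of multiplication by `t`. -/
theorem chi_mul (hg : topologicalKrullDim ↥X.left = g) (L : X.left.Modules) (hL : PicF.IsInvertible L)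
    (t : ℕ) (ht : 1 ≤ t) :
    chi k X g (mc L ^ (t * (t + 1) / 2) *
      mc ((Scheme.Modules.pullback ((𝟙 X)⁻¹ : X ⟶ X).left).obj L) ^ (t * (t - 1) / 2)) =
      (t : ℤ) ^ (2 * g) * chi k X g (mc L) := by
  obtain ⟨e⟩ := S1844.result k X L hL t ht
  obtain ⟨h1, h2, h3⟩ := S1842.result k X g hg (t : ℤ) (by omega)
  rw [zpow_natCast, Int.natAbs_natCast] at h3
  rw [zpow_natCast] at h1 h2
  have h4 := S7859.result k X X (𝟙 X ^ t) (t ^ (2 * g)) h3 L (CycB.DegCurve.isCoh_of_isInvertible hL)
  rw [← mc_tensorPow, ← mc_tensorPow, ← mc_tensor, ← mc_eq e, chi_mc k X g hg, chi_mc k X g hg, h4]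
  push_cast
  rfl

theorem chi_pow (hg : topologicalKrullDim ↥X.left = g) (L : X.left.Modules) (hL : PicF.IsInvertible L) (n : ℕ) :
    chi k X g (mc L ^ n) = (n : ℤ) ^ g * chi k X g (mc L) := by
  let _ : X.left.Over (Spec (CommRingCat.of k)) := ⟨X.hom⟩
  have hp : IsProper (X.left ↘ (Spec (CommRingCat.of k))) := inferInstanceAs (IsProper X.hom)
  let L' := (Scheme.Modules.pullback ((𝟙 X)⁻¹ : X ⟶ X).left).obj L
  have hL' : PicF.IsInvertible L' := Fdesc.LocGen.isInvertible_pullback _ hL
  have hF : Coh.IsCoh (Coh.structureModule X.left) := CurvesC.UnitCoh.isCoh_unit _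
  have hsupp : topologicalKrullDim (CohB1.support (Coh.structureModule X.left)) ≤ g :=
    (Topology.IsInducing.subtypeVal.topologicalKrullDim_le).trans hg.le
  obtain ⟨P, hP, hP'⟩ := S3230.result k X.left g hg.le ![L, L'] (by
    intro i
    fin_cases i
    · exact hL
    · exact hL') (Coh.structureModule X.left) hF g hsupp
  have key : ∀ a b : ℕ, (chi k X g (mc L ^ a * mc L' ^ b) : ℚ) = MvPolynomial.eval ![(a : ℚ), (b : ℚ)] P := by
    intro a b
    have h1 := hP' ![a, b]
    rw [← chiCl_mc, mc_multiTwist] at h1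
    simp only [Fin.prod_univ_two, Matrix.cons_val_zero, Matrix.cons_val_one, Matrix.cons_val_fin_one] at h1
    rw [h1]
    congr 1
    congr 1
    funext i
    fin_cases i <;> rfl
  have main := RRPoly.eval_eq_pow_mul g P hP (by
    intro t m ht
    have h2 := chi_mul k X g hg (CohB1.tensorPow L m) (Fdesc.LocGen.isInvertible_tensorPow hL m) t ht
    obtain ⟨e⟩ := nonempty_pull_tensorPow ((𝟙 X)⁻¹ : X ⟶ X).left hL m
    rw [mc_eq e, mc_tensorPow, mc_tensorPow, ← pow_mul, ← pow_mul] at h2
    rw [← key, h2]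
    have h3 := key m 0
    rw [pow_zero, _root_.mul_one] at h3
    push_cast
    rw [h3]
    simp) n
  have h4 := key n 0
  have h5 := key 1 0
  simp only [pow_zero, _root_.mul_one, pow_one, Nat.cast_zero, Nat.cast_one] at h4 h5
  rw [← h4, ← h5] at main
  exact_mod_cast main

theorem chi_inv (hg : topologicalKrullDim ↥X.left = g) (L M : X.left.Modules) (hL : PicF.IsInvertible L)
    (hM : PicF.IsInvertible M) (hLM : mc L * mc M = 1) :
    chi k X g (mc M) = (-1) ^ g * chi k X g (mc L) := by
  let _ : X.left.Over (Spec (CommRingCat.of k)) := ⟨X.hom⟩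
  have hp : IsProper (X.left ↘ (Spec (CommRingCat.of k))) := inferInstanceAs (IsProper X.hom)
  have hF : Coh.IsCoh (Coh.structureModule X.left) := CurvesC.UnitCoh.isCoh_unit _
  have hsupp : topologicalKrullDim (CohB1.support (Coh.structureModule X.left)) ≤ g :=
    (Topology.IsInducing.subtypeVal.topologicalKrullDim_le).trans hg.le
  obtain ⟨P, hP, hP'⟩ := S3230.result k X.left g hg.le ![L, M] (by
    intro i
    fin_cases i
    · exact hL
    · exact hM) (Coh.structureModule X.left) hF g hsupp
  have key : ∀ a b : ℕ, (chi k X g (mc L ^ a * mc M ^ b) : ℚ) = MvPolynomial.eval ![(a : ℚ), (b : ℚ)] P := by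
    intro a b
    have h1 := hP' ![a, b]
    rw [← chiCl_mc, mc_multiTwist] at h1
    simp only [Fin.prod_univ_two, Matrix.cons_val_zero, Matrix.cons_val_one, Matrix.cons_val_fin_one] at h1
    rw [h1]
    congr 1
    congr 1
    funext i
    fin_cases i <;> rfl
  have main := RRPoly.eval_neg g P (chi k X g (mc L)) (by
    intro x
    have h1 := key (x + 1) 1
    rw [pow_one, pow_succ, _root_.mul_assoc, hLM, _root_.mul_one, chi_pow k X g hg L hL] at h1
    simp only [Nat.cast_one] at h1
    rw [← h1]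
    push_cast
    rfl)
  have h2 := key 0 1
  simp only [pow_zero, _root_.one_mul, pow_one, Nat.cast_zero, Nat.cast_one] at h2
  rw [← h2] at main
  exact_mod_cast main

end

end K450.RRChi
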