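import Groth.Agent.AbSch.K451.DetPic
import Groth.Agent.Krr.H463.HomTensor
import Groth.Agent.Krr.H463.DualLam

/-!
# The determinant of the dual

`det_dl`: `det Hom(E, O) = (det E)⁻¹`.
-/

set_option autoImplicit false
universe u

open CategoryTheory CategoryTheory.Limits AlgebraicGeometry Opposite TopologicalSpace
open Groth.Agent.Sga67 Groth.Agent.Sga67.Sec Groth.Agent.Sga67.LocBasis Groth.Agent.Dual.H376.GlueGen
open Groth.Agent.Grpsch Groth.Agent.Sga67.TensorOps Groth.Agent.Sga67.ExtSheaf Groth.Agent.Dual.H376.DetSec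

namespace K450.KeyDet

open K451.Coc K451.DetMat K451.DetPic
open Groth.Agent.CohqB.HomSheaf (homSheaf)
open Groth.Agent.Krr.H463.HomBasis Groth.Agent.Krr.H463.HomTensor Groth.Agent.Krr.H463.DualLam

variable {X : Scheme.{u}}

/-- The determinant of the dual is the inverse of the determinant. -/
theorem det_dl {r : ℕ} {E : X.Modules} (hE : FlatMod.IsFinLocFreeOfRank r E) :
    det r (homSheaf E (Coh.structureModule X)) (isFinLocFreeOfRank_homSheaf hE) = (det r E hE)⁻¹ := by
  rw [eq_inv_iff_mul_eq_one]
  choose V _ b hx hb using fun x : X => exists_affine_basis hE (U := ⊤) (x := x) trivial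
  have hB : ∀ x : X, ∃ i, x ∈ (V i).1 := fun x => ⟨x, hx x⟩
  have hc := fun i => isLocBasis_hsec (N := Coh.structureModule X) (hb i) (isLocBasis_one' X (V i).1)
  choose a ha using fun i j => exists_matrix (W := (V i).1 ⊓ (V j).1) (b i) (hb j) inf_le_left inf_le_right
  choose a' ha' using fun i j => exists_matrix (W := (V i).1 ⊓ (V j).1)
    (hsec (N := Coh.structureModule X) (hb i) (one X (V i).1)) (hc j) inf_le_left inf_le_right
  have h1 := isCoc_det V b hb (fun i j => Matrix.of (a i j)) ha
    (Groth.Agent.Dual.H366.ExtQCoh.isExtPow_ext (isQCoh_of_rank hE) r)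
    (isInvertible_of_isExtPow hE (Groth.Agent.Dual.H366.ExtQCoh.isExtPow_ext (isQCoh_of_rank hE) r))
  have h2 := isCoc_det V _ hc (fun i j => Matrix.of (a' i j)) ha'
    (Groth.Agent.Dual.H366.ExtQCoh.isExtPow_ext (isQCoh_of_rank (isFinLocFreeOfRank_homSheaf hE)) r)
    (isInvertible_of_isExtPow (isFinLocFreeOfRank_homSheaf hE)
      (Groth.Agent.Dual.H366.ExtQCoh.isExtPow_ext (isQCoh_of_rank (isFinLocFreeOfRank_homSheaf hE)) r))
  have key : ∀ i j, Matrix.of (a' i j) * (Matrix.of (a i j)).transpose = 1 := by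
    intro i j
    ext k l
    have hV : (V i).1 ⊓ (V j).1 ≤ (V i).1 := inf_le_left
    have hV' : (V i).1 ⊓ (V j).1 ≤ (V j).1 := inf_le_right
    have e1 := congrFun (ev_res_hsec (N := Coh.structureModule X) (hb i) (one X (V i).1) k hV) l
    have e2 := fun m n => congrFun (ev_res_hsec (N := Coh.structureModule X) (hb j) (one X (V j).1) m hV') n
    have e3 : ev (Coh.structureModule X) (b i) hV (res _ hV (hsec (N := Coh.structureModule X)
        (hb i) (one X (V i).1) k)) l = ∑ m, (a' i j k m * a i j l m) • one X ((V i).1 ⊓ (V j).1) := by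
      rw [ha' i j k, map_sum, Finset.sum_apply]
      refine Finset.sum_congr rfl fun m _ => ?_
      rw [map_smul, Pi.smul_apply, ev_apply, ha i j l, map_sum, mul_smul]
      congr 1
      have e4 : ∀ n, cS (res _ hV' (hsec (N := Coh.structureModule X) (hb j) (one X (V j).1) m)) le_rfl
          (a i j l n • res E hV' (b j n)) = a i j l n • (Pi.single m (one X ((V i).1 ⊓ (V j).1)) :
            Fin r → Sec (Coh.structureModule X) ((V i).1 ⊓ (V j).1)) n := by
        intro n
        rw [map_smul]
        congr 1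
        have := e2 m n
        rw [ev_apply, res_one] at this
        exact this
      rw [Finset.sum_congr rfl fun n _ => e4 n, Finset.sum_eq_single m]
      · rw [Pi.single_eq_same]
      · intro n _ hn
        rw [Pi.single_eq_of_ne hn, _root_.smul_zero]
      · simp
    rw [e1, res_one] at e3
    have e5 : ∀ c : Γ(X, (V i).1 ⊓ (V j).1), c • one X ((V i).1 ⊓ (V j).1) = c := smul_one X _
    rw [← Finset.sum_smul, e5] at e3
    rw [Matrix.mul_apply]
    simp only [Matrix.transpose_apply, Matrix.of_apply]
    refine e3.symm.trans ?_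
    by_cases h : l = k
    · subst h
      rw [Pi.single_eq_same, Matrix.one_apply_eq]
      rfl
    · rw [Pi.single_eq_of_ne h, Matrix.one_apply_ne (Ne.symm h)]
      rfl
  have h3 := h2.mul h1
  refine IsCoc.eq hB h3 ?_
  have h4 : (fun i j => (Matrix.of (a' i j)).det * (Matrix.of (a i j)).det) = fun _ _ => 1 := by
    funext i j
    rw [← Matrix.det_transpose (Matrix.of (a i j)), ← Matrix.det_mul, key, Matrix.det_one]
  rw [h4]
  exact isCoc_one

end K450.KeyDet
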