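import Groth.Agent.S0033
import Groth.Agent.S0927
import Groth.Agent.Dcoh.DerSch
import Groth.Agent.Sga4h.Edge
import Groth.Agent.Sga4h.LerayAcyc
import Groth.Agent.PerfB.FlatPull
import Groth.Agent.AbSch.K451.BoxPush

/-!
# Degenerate Leray isomorphisms for higher direct images of modules

* `nonempty_low`: `R^m (h b)_* E = h_* R^m b_* E` when `R^p b_* E = 0` for `p < m`, `b` flat;
* `nonempty_acyc`: `R^m (f a)_* E = R^m f_* (a_* E)` when `R^p a_* E = 0` for `p > 0`, `a` flat;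
* `nonempty_box`: `R^m (f × h)_* (F ⊠ G) = R^m f_* F ⊗ h_* G` when `R^p h_* G = 0` for `p > 0`.
-/

set_option autoImplicit false
universe u

open CategoryTheory CategoryTheory.Limits AlgebraicGeometry Opposite

namespace K450.KeyPush

open Groth.Agent

variable {X Y Z : Scheme.{u}}

theorem injective_push (f : X ⟶ Y) [Flat f] (I : X.Modules) (hI : Injective I) :
    Injective ((Coh.push f).obj I) := by
  have : PreservesFiniteLimits (Scheme.Modules.pullback f) := PerfB.FlatPull.preservesFiniteLimits_pullback f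
  have : (Scheme.Modules.pullback f).PreservesMonomorphisms := inferInstance
  exact (Scheme.Modules.pullbackPushforwardAdjunction f).map_injective I hI

/-- the composition isomorphism of direct images -/
noncomputable def pushComp (f : X ⟶ Y) (g : Y ⟶ Z) : Coh.push f ⋙ Coh.push g ≅ Coh.push (f ≫ g) :=
  Scheme.Modules.pushforwardComp f g

theorem nonempty_comp_der [HasInjectiveResolutions X.Modules] (f : X ⟶ Y) (g : Y ⟶ Z) (E : X.Modules) (m : ℕ) :
    Nonempty ((Coh.Rpush (f ≫ g) m).obj E ≅ ((Coh.push f ⋙ Coh.push g).rightDerived m).obj E) :=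
  ⟨(Sga4h.LerayAcyc.rightDerivedCongr (pushComp f g).symm m).app E⟩

/-- Leray in the lowest degree. -/
theorem nonempty_low [HasInjectiveResolutions X.Modules] (b : X ⟶ Y) (h : Y ⟶ Z) [Flat b] (E : X.Modules) (m : ℕ)
    (hE : ∀ p < m, IsZero ((Coh.Rpush b p).obj E)) :
    Nonempty ((Coh.Rpush (b ≫ h) m).obj E ≅ (Coh.push h).obj ((Coh.Rpush b m).obj E)) := by
  obtain ⟨e⟩ := nonempty_comp_der b h E m
  exact ⟨e ≪≫ Sga4h.Edge.rightDerivedCompIso (Coh.push b) (Coh.push h) (injective_push b) E m hE⟩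

/-- Leray for an acyclic module. -/
theorem nonempty_acyc [HasInjectiveResolutions X.Modules] [HasInjectiveResolutions Y.Modules] (a : X ⟶ Y) (f : Y ⟶ Z)
    [Flat a] (E : X.Modules)
    (hE : ∀ p, 0 < p → IsZero ((Coh.Rpush a p).obj E)) (m : ℕ) :
    Nonempty ((Coh.Rpush (a ≫ f) m).obj E ≅ (Coh.Rpush f m).obj ((Coh.push a).obj E)) := by
  obtain ⟨e⟩ := nonempty_comp_der a f E m
  exact ⟨e ≪≫ Sga4h.LerayAcyc.rightDerivedIso (Coh.push a) (Coh.push f) (injective_push a) E hE m⟩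

/-- Invariance under isomorphisms of the source. -/
theorem nonempty_iso {σ : X ⟶ Y} [IsIso σ] (f : Y ⟶ Z) [QuasiCompact f] [QuasiSeparated f] (E : Y.Modules) [Coh.IsQCoh E]
    [HasInjectiveResolutions X.Modules] [HasInjectiveResolutions Y.Modules] (m : ℕ) :
    Nonempty ((Coh.Rpush f m).obj E ≅ (Coh.Rpush (σ ≫ f) m).obj ((Scheme.Modules.pullback σ).obj E)) := by
  have sq : IsPullback σ (σ ≫ f) f (𝟙 Z) := IsPullback.of_horiz_isIso ⟨by simp⟩
  obtain ⟨e⟩ := S0033.result f (𝟙 Z) σ (σ ≫ f) sq E m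
  exact ⟨((Scheme.Modules.pullbackId Z).app _).symm ≪≫ e⟩

/-- The higher direct images of a module pulled back from the other factor. -/
theorem nonempty_side {X Y P S : Scheme.{u}} {f : X ⟶ S} {h : Y ⟶ S} {p : P ⟶ X} {q : P ⟶ Y}
    (sq : IsPullback p q f h) [Flat f] [QuasiCompact h] [QuasiSeparated h]
    [HasInjectiveResolutions P.Modules] [HasInjectiveResolutions Y.Modules] {F : X.Modules} {G : Y.Modules}
    (hF : FlatMod.IsFinLocFree F) [Coh.IsQCoh G] (i : ℕ) :
    Nonempty ((Coh.Rpush p i).obj (CohB1.tensorMod ((Scheme.Modules.pullback p).obj F) ((Scheme.Modules.pullback q).obj G)) ≅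
      CohB1.tensorMod F ((Scheme.Modules.pullback f).obj ((Coh.Rpush h i).obj G))) := by
  obtain ⟨e⟩ := S0927.result p ((Scheme.Modules.pullback q).obj G) F hF i
  obtain ⟨e'⟩ := S0033.result h f q p sq.flip G i
  exact ⟨e.symm ≪≫ Ega2.Tens.mapTIso (Iso.refl F) e'.symm⟩

theorem isZero_tensor_of_left {F : X.Modules} (h : IsZero F) (G : X.Modules) : IsZero (CohB1.tensorMod F G) :=
  Functor.map_isZero (DCoh.tensorRightMod G) h

theorem isZero_tensor_of_right {F G : X.Modules} (h : IsZero G) : IsZero (CohB1.tensorMod F G) :=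
  (isZero_tensor_of_left h F).of_iso (Ega2.Tens.swap _ _)

/-- The higher direct images of an external tensor product, one side acyclic. -/
theorem nonempty_box {X Y P S : Scheme.{u}} {f : X ⟶ S} {h : Y ⟶ S} {p : P ⟶ X} {q : P ⟶ Y}
    (sq : IsPullback p q f h) [Flat f] [Flat h] [QuasiCompact h] [QuasiSeparated h]
    [HasInjectiveResolutions P.Modules] [HasInjectiveResolutions Y.Modules] [HasInjectiveResolutions X.Modules]
    {F : X.Modules} {G : Y.Modules}
    (hF : FlatMod.IsFinLocFree F) [Coh.IsQCoh G] (hG : ∀ i, 0 < i → IsZero ((Coh.Rpush h i).obj G))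
    (hG0 : FlatMod.IsFinLocFree ((Coh.push h).obj G)) (m : ℕ) :
    Nonempty ((Coh.Rpush (p ≫ f) m).obj (CohB1.tensorMod ((Scheme.Modules.pullback p).obj F) ((Scheme.Modules.pullback q).obj G)) ≅
      CohB1.tensorMod ((Coh.Rpush f m).obj F) ((Coh.push h).obj G)) := by
  have : Flat p := MorphismProperty.of_isPullback sq.flip inferInstance
  obtain ⟨e⟩ := nonempty_acyc p f (CohB1.tensorMod ((Scheme.Modules.pullback p).obj F) ((Scheme.Modules.pullback q).obj G))
    (fun i hi => by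
      obtain ⟨e⟩ := nonempty_side sq (F := F) (G := G) hF i
      exact (isZero_tensor_of_right ((Scheme.Modules.pullback f).map_isZero (hG i hi))).of_iso e) m
  obtain ⟨e0⟩ := nonempty_side sq (F := F) (G := G) hF 0
  obtain ⟨e1⟩ := S0927.result f F ((Coh.push h).obj G) hG0 m
  let z := fun (W : P.Modules) => (Coh.push p).rightDerivedZeroIsoSelf.app W
  let z' := (Coh.push h).rightDerivedZeroIsoSelf.app G
  exact ⟨e ≪≫ (Coh.Rpush f m).mapIso ((z _).symm ≪≫ e0 ≪≫ Ega2.Tens.mapTIso (Iso.refl F)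
    ((Scheme.Modules.pullback f).mapIso z') ≪≫ Ega2.Tens.swap _ _) ≪≫ e1.symm ≪≫ Ega2.Tens.swap _ _⟩

open Groth.Agent.VarietyB.TensCoh in
/-- The direct image of a module whose only higher direct image `R^g b_*` comes from a closed subscheme. -/
theorem nonempty_conc {Z B S V : Scheme.{u}} (b : Z ⟶ B) [Flat b] [HasInjectiveResolutions Z.Modules] (h : B ⟶ S)
    (i : V ⟶ B) (C : Z.Modules) {M : B.Modules} (hM : FlatMod.IsFinLocFree M) (g : ℕ)
    (hlow : ∀ p < g, IsZero ((Coh.Rpush b p).obj C)) {J : S.Modules} (hJ : FlatMod.IsFinLocFree J)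
    (e : (Coh.Rpush b g).obj C ≅ (Coh.push i).obj ((Scheme.Modules.pullback (i ≫ h)).obj J)) :
    Nonempty ((Coh.Rpush (b ≫ h) g).obj (CohB1.tensorMod C ((Scheme.Modules.pullback b).obj M)) ≅
      CohB1.tensorMod ((Coh.push (i ≫ h)).obj ((Scheme.Modules.pullback i).obj M)) J) := by
  have hproj : ∀ p, Nonempty ((Coh.Rpush b p).obj (CohB1.tensorMod C ((Scheme.Modules.pullback b).obj M)) ≅
      CohB1.tensorMod ((Coh.Rpush b p).obj C) M) := fun p => by
    obtain ⟨e⟩ := S0927.result b C M hM p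
    exact ⟨(Coh.Rpush b p).mapIso (Ega2.Tens.swap _ _) ≪≫ e.symm ≪≫ Ega2.Tens.swap _ _⟩
  obtain ⟨e1⟩ := nonempty_low b h (CohB1.tensorMod C ((Scheme.Modules.pullback b).obj M)) g (fun p hp => by
    obtain ⟨e'⟩ := hproj p
    exact (isZero_tensor_of_left (hlow p hp) M).of_iso e')
  obtain ⟨e2⟩ := hproj g
  let p1 := VarietyB.ProjForm.projIso i (HasBases.of_isFinLocFree hM) ((Scheme.Modules.pullback (i ≫ h)).obj J)
  let p2 := VarietyB.ProjForm.projIso (i ≫ h) (HasBases.of_isFinLocFree hJ) ((Scheme.Modules.pullback i).obj M)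
  refine ⟨e1 ≪≫ (Coh.push h).mapIso (e2 ≪≫ Ega2.Tens.mapTIso e (Iso.refl M) ≪≫ Ega2.Tens.swap _ _ ≪≫ p1) ≪≫
    (pushComp i h).app _ ≪≫ (Coh.push (i ≫ h)).mapIso (Ega2.Tens.swap _ _) ≪≫ p2.symm ≪≫ Ega2.Tens.swap _ _⟩

end K450.KeyPush
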