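import Groth.Agent.AbSch.K450.KeyDual
import Groth.Agent.AbSch.K450.KeyDet
import Groth.Agent.AbSch.K450.KeyPush
import Groth.Agent.AbSch.K451.OmegaBox
import Groth.Agent.OmegaSh.K583.ExtPowPull
import Groth.Agent.Dcoh.MonClosed
import Groth.Agent.S1937
import Groth.Agent.S0927

/-!
# Duality for invertible modules on abelian schemes, and determinants

`dual_inv`: `A` an abelian scheme of relative dimension `g` over `S`, `ω = Λ^g e^* Ω`, `L`, `L'` inverse invertible
modules with `R^i f_* L = 0` for `i > 0` and `f_* L` of rank `d`; then `R^j f_* L' = 0` for `j ≠ g`, `R^g f_* L'` is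
of rank `d` and `det R^g f_* L' * det f_* L * ω ^ d = 1`.
-/

set_option autoImplicit false

universe u

open CategoryTheory CategoryTheory.Limits AlgebraicGeometry MonoidalCategory
open scoped MonObj
open scoped Groth.Agent.Dcoh.MonCat

namespace K450.KeyAb

open Groth.Agent Groth.Agent.Grpsch K451.DetPic K451.DetMat
open Groth.Agent.CohqB.HomSheaf (homSheaf)
open K451.OmegaBox (om)

variable {X S : Scheme.{u}}

/-- The dual object is the sheaf Hom into the structure sheaf. -/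
noncomputable def dualIso (E E' : X.Modules) [ExactPairing E E'] : E' ≅ homSheaf E (Coh.structureModule X) :=
  (λ_ E').symm ≪≫ ((tensorRightAdjunction E E').rightAdjointUniq
    (Dcoh.MonClosed.tensorRightHomAdj E)).app (𝟙_ X.Modules)

theorem rank_pairing {r : ℕ} {E E' : X.Modules} (p : ExactPairing E E') (hE : FlatMod.IsFinLocFreeOfRank r E) :
    FlatMod.IsFinLocFreeOfRank r E' :=
  rank_of_iso (dualIso E E').symm (Groth.Agent.Krr.H463.DualLam.isFinLocFreeOfRank_homSheaf hE)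

theorem det_pairing {r : ℕ} {E E' : X.Modules} (p : ExactPairing E E') (hE : FlatMod.IsFinLocFreeOfRank r E)
    (hE' : FlatMod.IsFinLocFreeOfRank r E') : det r E' hE' = (det r E hE)⁻¹ := by
  rw [← K450.KeyDet.det_dl hE]
  exact det_congr _ _ rfl (dualIso E E')

/-- A dual of an invertible module is its inverse. -/
theorem mk_pairing {E E' : X.Modules} (p : ExactPairing E E') (hE : PicF.IsInvertible E)
    (hE' : PicF.IsInvertible E') : PicGrp.mk E' hE' = (PicGrp.mk E hE)⁻¹ := by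
  have h1 := det_pairing p (rank_one_iff.mpr hE) (rank_one_iff.mpr hE')
  rwa [det_one _ hE, det_one _ hE'] at h1

section

variable {A : Over S} [GrpObj A] {g : ℕ}

/-- The differentials of a group scheme are pulled back from the base. -/
theorem nonempty_omega (A : Over S) [GrpObj A] [QuasiSeparated A.hom] :
    Nonempty ((Scheme.Modules.pullback A.hom).obj (om A) ≅ Omega.sheaf A.hom) := by
  obtain ⟨e⟩ := (S1937.result S A).1
  have h : (η[A] : 𝟙_ (Over S) ⟶ A).left ≫ A.hom = 𝟙 S := Over.w (η[A] : 𝟙_ (Over S) ⟶ A)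
  refine ⟨(Scheme.Modules.pullback A.hom).mapIso ((Scheme.Modules.pullback _).mapIso e ≪≫
    (Scheme.Modules.pullbackComp _ _).app _ ≪≫ (Scheme.Modules.pullbackCongr h).app _ ≪≫
    (Scheme.Modules.pullbackId S).app _) ≪≫ e.symm⟩

theorem isExtPow_omega (hA : AgPol.IsAbSch A g) {ω : S.Modules} (hω : ExtPow.IsExtPow g (om A) ω) :
    ExtPow.IsExtPow g (Omega.sheaf A.hom) ((Scheme.Modules.pullback A.hom).obj ω) := by
  have := hA.proper
  obtain ⟨e⟩ := nonempty_omega A
  exact K583.ExtPowPull.isExtPow_of_iso_left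
    (isQCoh_of_rank (K451.RelDim.isFinLocFreeOfRank_omega hA)) e
    (K583.ExtPowPull.isExtPow_pullback A.hom
      (isQCoh_of_rank (K451.OmegaBox.isFinLocFreeOfRank_om hA)) hω)

/-- **Duality** for inverse invertible modules on an abelian scheme. -/
theorem dual_inv (hA : AgPol.IsAbSch A g) {ω : S.Modules} (hω : ExtPow.IsExtPow g (om A) ω)
    (hωi : PicF.IsInvertible ω) {L L' : A.left.Modules} (hL : PicF.IsInvertible L) (hL' : PicF.IsInvertible L')
    (hLL' : PicGrp.mk L hL * PicGrp.mk L' hL' = 1) (h0 : ∀ i, 0 < i → IsZero ((Coh.Rpush A.hom i).obj L)) {d : ℕ}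
    (hd : FlatMod.IsFinLocFreeOfRank d ((Coh.push A.hom).obj L)) :
    (∀ j, j ≠ g → IsZero ((Coh.Rpush A.hom j).obj L')) ∧
      ∃ hd' : FlatMod.IsFinLocFreeOfRank d ((Coh.Rpush A.hom g).obj L'),
        det d _ hd' * det d _ hd * PicGrp.mk ω hωi ^ d = 1 := by
  have := hA.proper
  have := K451.RelDim.smoothOfRelativeDimension hA
  have := Groth.Agent.Dcoh.DerSch.hasInjectiveResolutions A.left
  have hLf : FlatMod.IsFinLocFree L := isFinLocFree_of_rank (rank_one_iff.mpr hL)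
  obtain ⟨N', ⟨pN⟩⟩ := Groth.Agent.Dcoh.DualFLF.exists_exactPairing hLf
  obtain ⟨W', ⟨pW⟩⟩ := Groth.Agent.Dcoh.DualFLF.exists_exactPairing (isFinLocFree_of_rank hd)
  have hN'i : PicF.IsInvertible N' := rank_one_iff.mp (rank_pairing pN (rank_one_iff.mpr hL))
  have e1 : Nonempty (N' ≅ L') := by
    rw [← PicGrp.mk_eq_iff hN'i hL', mk_pairing pN hL hN'i]
    exact inv_eq_of_mul_eq_one_right hLL'
  obtain ⟨e1⟩ := e1
  have hωA : PicF.IsInvertible ((Scheme.Modules.pullback A.hom).obj ω) :=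
    Groth.Agent.Fdesc.LocGen.isInvertible_pullback A.hom hωi
  obtain ⟨⟨d1⟩, d2⟩ := KeyDual.nonempty_dual A.hom g (isExtPow_omega hA hω)
    (isFinLocFree_of_rank (rank_one_iff.mpr hωA)) hLf pN h0 (isFinLocFree_of_rank hd) pW (Iso.refl _)
  have hωf : FlatMod.IsFinLocFree ω := isFinLocFree_of_rank (rank_one_iff.mpr hωi)
  have e2 : ∀ j, Nonempty (CohB1.tensorMod ω ((Coh.Rpush A.hom j).obj L') ≅
      (Coh.Rpush A.hom j).obj (CohB1.tensorMod ((Scheme.Modules.pullback A.hom).obj ω) N')) := by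
    intro j
    obtain ⟨e⟩ := S0927.result A.hom N' ω hωf j
    exact ⟨Ega2.Tens.mapTIso (Iso.refl ω) ((Coh.Rpush A.hom j).mapIso e1.symm) ≪≫ e⟩
  -- the inverse of `ω`
  obtain ⟨ω', hω'i, ⟨eω⟩⟩ := PicGrp.exists_inverse hωi
  let eu : 𝟙_ S.Modules ≅ ω' ⊗ ω := eω.symm ≪≫ Ega2.Tens.swap _ _
  have e3 : ∀ M : S.Modules, Nonempty (M ≅ CohB1.tensorMod ω' (CohB1.tensorMod ω M)) := fun M =>
    ⟨(λ_ M).symm ≪≫ whiskerRightIso eu M ≪≫ α_ ω' ω M⟩
  refine ⟨fun j hj => ?_, ?_⟩
  · obtain ⟨e⟩ := e2 j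
    obtain ⟨e'⟩ := e3 ((Coh.Rpush A.hom j).obj L')
    exact (K450.KeyPush.isZero_tensor_of_right ((d2 j hj).of_iso e)).of_iso e'
  · obtain ⟨e⟩ := e2 g
    obtain ⟨e'⟩ := e3 ((Coh.Rpush A.hom g).obj L')
    have hW' : FlatMod.IsFinLocFreeOfRank d W' := rank_pairing pW hd
    have h1 : FlatMod.IsFinLocFreeOfRank (1 * d) (CohB1.tensorMod ω' (CohB1.tensorMod ω ((Coh.Rpush A.hom g).obj L'))) :=
      rank_tensor (rank_one_iff.mpr hω'i) (rank_of_iso (e ≪≫ d1).symm hW')
    have h2 : FlatMod.IsFinLocFreeOfRank d ((Coh.Rpush A.hom g).obj L') := by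
      have := rank_of_iso e'.symm h1
      rwa [one_mul] at this
    refine ⟨h2, ?_⟩
    have h3 : det (1 * d) _ (rank_tensor (rank_one_iff.mpr hωi) h2) = det d W' hW' :=
      det_congr _ _ (one_mul d) (e ≪≫ d1)
    rw [det_tensor (rank_one_iff.mpr hωi) h2, det_one _ hωi, pow_one, det_pairing pW hd hW'] at h3
    rw [mul_right_comm, mul_comm _ (PicGrp.mk ω hωi ^ d), h3, inv_mul_cancel]

end

end K450.KeyAb
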