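import Groth.Agent.AbSch.K451.DetPic
import Groth.Agent.VarietyA.FinTriv

/-!
# Determinants of direct images of invertible modules under a finite locally free morphism

* `isLocBasis_push`: local bases of `q_* N` from those of `q_* O` and a generator of `N`;
* `det_push_mul`: for `q` finite locally free and `N₁`, `N₂` invertible,
  `det q_* (N₁ ⊗ N₂) * det q_* O = det q_* N₁ * det q_* N₂`;
* `nrm`: the norm homomorphism `Pic V → Pic S`, `N ↦ det q_* N * (det q_* O)⁻¹`.
-/

set_option autoImplicit false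
universe u

open CategoryTheory CategoryTheory.Limits AlgebraicGeometry Opposite TopologicalSpace
open scoped TensorProduct
open Groth.Agent.Sga67 Groth.Agent.Sga67.Sec Groth.Agent.Sga67.LocBasis Groth.Agent.Dual.H376.GlueGen
open Groth.Agent.Grpsch Groth.Agent.Sga67.TensorOps Groth.Agent.Sga67.ExtSheaf Groth.Agent.Dual.H376.DetSec

namespace K450.KeyNorm

open K451.Coc K451.DetMat K451.DetPic

variable {V S : Scheme.{u}} (q : V ⟶ S)

/-- Sections of the direct image. -/
def psec (F : V.Modules) (W : S.Opens) : Sec F (q ⁻¹ᵁ W) ≃+ Sec ((Coh.push q).obj F) W := AddEquiv.refl _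

theorem psec_smul (F : V.Modules) (W : S.Opens) (a : Γ(S, W)) (s : Sec F (q ⁻¹ᵁ W)) :
    a • psec q F W s = psec q F W ((q.app W).hom a • s) := rfl

theorem res_psec (F : V.Modules) {W W' : S.Opens} (h : W' ≤ W) (s : Sec F (q ⁻¹ᵁ W)) :
    res _ h (psec q F W s) = psec q F W' (res F (q.preimage_mono h) s) := rfl

/-- The section `b • e` of the direct image. -/
noncomputable def bsec (N : V.Modules) (W : S.Opens) (e : Sec N (q ⁻¹ᵁ W)) :
    Sec ((Coh.push q).obj (Coh.structureModule V)) W →ₗ[Γ(S, W)] Sec ((Coh.push q).obj N) W where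
  toFun b := psec q N W (toO ((psec q (Coh.structureModule V) W).symm b) • e)
  map_add' b b' := by
    rw [← map_add, ← add_smul]
    rfl
  map_smul' a b := by
    rw [RingHom.id_apply, psec_smul, smul_smul]
    rfl

theorem bsec_apply (N : V.Modules) (W : S.Opens) (e : Sec N (q ⁻¹ᵁ W))
    (b : Sec ((Coh.push q).obj (Coh.structureModule V)) W) :
    bsec q N W e b = psec q N W (toO ((psec q (Coh.structureModule V) W).symm b) • e) := rfl

theorem res_bsec (N : V.Modules) {W W' : S.Opens} (h : W' ≤ W) (e : Sec N (q ⁻¹ᵁ W))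
    (b : Sec ((Coh.push q).obj (Coh.structureModule V)) W) :
    res _ h (bsec q N W e b) = bsec q N W' (res N (q.preimage_mono h) e) (res _ h b) := by
  rw [bsec_apply, res_psec, res_smul]
  rfl

theorem bsec_bijective (N : V.Modules) (W : S.Opens) {e : Sec N (q ⁻¹ᵁ W)} (he : IsGen e) :
    Function.Bijective (bsec q N W e) := by
  have h := he _ (le_refl (q ⁻¹ᵁ W))
  rw [res_self] at h
  exact h

theorem isLocBasis_bsec_iff {N : V.Modules} {W : S.Opens} {e : Sec N (q ⁻¹ᵁ W)} (he : IsGen e) {κ : Type*} [Fintype κ]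
    {b : κ → Sec ((Coh.push q).obj (Coh.structureModule V)) W} :
    IsLocBasis (fun k => bsec q N W e (b k)) ↔ IsLocBasis b := by
  refine forall_congr' fun W' => forall_congr' fun h => ?_
  have : (comb (fun k => bsec q N W e (b k)) h : (κ → Γ(S, W')) → Sec ((Coh.push q).obj N) W') =
      bsec q N W' (res N (q.preimage_mono h) e) ∘ comb b h := by
    funext a
    simp only [comb_apply, Function.comp_apply, map_sum, map_smul, res_bsec]
  rw [this]
  exact Function.Bijective.of_comp_iff' (bsec_bijective q N W' (he.restrict _)) _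

theorem isLocBasis_bsec {N : V.Modules} {W : S.Opens} {e : Sec N (q ⁻¹ᵁ W)} (he : IsGen e) {κ : Type*} [Fintype κ]
    {b : κ → Sec ((Coh.push q).obj (Coh.structureModule V)) W} (hb : IsLocBasis b) :
    IsLocBasis (fun k => bsec q N W e (b k)) := (isLocBasis_bsec_iff q he).mpr hb

/-- A local generator over the inverse image of an open set, and a local basis of `q_* O`. -/
theorem exists_gen_basis [IsFinite q] {d : ℕ}
    (hO : FlatMod.IsFinLocFreeOfRank d ((Coh.push q).obj (Coh.structureModule V)))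
    {N : V.Modules} (hN : PicF.IsInvertible N) {x : S} {W₀ : S.Opens} (hx : x ∈ W₀) :
    ∃ (W : S.affineOpens) (_ : W.1 ≤ W₀) (b : Fin d → Sec ((Coh.push q).obj (Coh.structureModule V)) W.1)
      (e : Sec N (q ⁻¹ᵁ W.1)), x ∈ W.1 ∧ IsLocBasis b ∧ IsGen e := by
  obtain ⟨W₁, e, hx₁, hW₁, he⟩ := Groth.Agent.VarietyA.FinTriv.exists_isGen_preimage q N hN x W₀ hx
  obtain ⟨W, hW, b, hxW, hb⟩ := exists_affine_basis hO (U := W₁) (x := x) hx₁
  have he' : IsGen (E := N) (U := q ⁻¹ᵁ W₁) e := he
  exact ⟨W, hW.trans hW₁, b, res N (q.preimage_mono hW) e, hxW, hb, he'.restrict _⟩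

theorem rank_push [IsFinite q] {d : ℕ}
    (hO : FlatMod.IsFinLocFreeOfRank d ((Coh.push q).obj (Coh.structureModule V)))
    {N : V.Modules} (hN : PicF.IsInvertible N) : FlatMod.IsFinLocFreeOfRank d ((Coh.push q).obj N) := by
  rw [rank_iff]
  intro x
  obtain ⟨W, -, b, e, hx, hb, he⟩ := exists_gen_basis q hO hN (x := x) (W₀ := ⊤) trivial
  exact ⟨W.1, Fin d, inferInstance, _, hx, isLocBasis_bsec q he hb, Fintype.card_fin d⟩

/-- The rank of `q_* O` from the rank of `q_* N`. -/
theorem rank_unit [IsFinite q] {N : V.Modules} (hN : PicF.IsInvertible N) {d : ℕ}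
    (hd : FlatMod.IsFinLocFreeOfRank d ((Coh.push q).obj N)) :
    FlatMod.IsFinLocFreeOfRank d ((Coh.push q).obj (Coh.structureModule V)) := by
  rw [rank_iff]
  intro x
  obtain ⟨W₁, e, hx₁, hW₁, he⟩ := Groth.Agent.VarietyA.FinTriv.exists_isGen_preimage q N hN x ⊤ trivial
  obtain ⟨W, hW, b, hxW, hb⟩ := exists_affine_basis hd (U := W₁) (x := x) hx₁
  have he' : IsGen (E := N) (U := q ⁻¹ᵁ W₁) e := he
  have he2 := he'.restrict (q.preimage_mono hW)
  choose b' hb' using fun k => (bsec_bijective q N W.1 he2).2 (b k)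
  have hb2 : IsLocBasis (fun k => bsec q N W.1 (res N (q.preimage_mono hW) e) (b' k)) := by
    simpa only [hb'] using hb
  exact ⟨W.1, Fin d, inferInstance, b', hxW, (isLocBasis_bsec_iff q he2).mp hb2, Fintype.card_fin d⟩

theorem exists_unit {N : V.Modules} {U U' W : V.Opens} (e : Sec N U) {e' : Sec N U'} (he' : IsGen e')
    (h : W ≤ U) (h' : W ≤ U') : ∃ u : Γ(V, W), res N h e = u • res N h' e' := by
  obtain ⟨u, hu⟩ := (he' W h').2 (res N h e)
  exact ⟨u, hu.symm⟩

/-- The matrix of the multiplication by a function. -/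
theorem exists_mul_matrix {d : ℕ} {W W' : S.Opens}
    {b : Fin d → Sec ((Coh.push q).obj (Coh.structureModule V)) W} (hb : IsLocBasis b) (h : W' ≤ W)
    (u : Γ(V, q ⁻¹ᵁ W')) : ∃ U : Matrix (Fin d) (Fin d) Γ(S, W'),
      ∀ k, bsec q (Coh.structureModule V) W' (u • one V (q ⁻¹ᵁ W')) (res _ h (b k)) = ∑ l, U k l • res _ h (b l) := by
  choose U hU using fun k => (hb W' h).2 (bsec q (Coh.structureModule V) W' (u • one V (q ⁻¹ᵁ W')) (res _ h (b k)))
  refine ⟨Matrix.of U, fun k => ?_⟩
  rw [← hU k, comb_apply]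
  rfl

theorem bsec_smul {N : V.Modules} {W : S.Opens} (e : Sec N (q ⁻¹ᵁ W)) (u : Γ(V, q ⁻¹ᵁ W))
    (x : Sec ((Coh.push q).obj (Coh.structureModule V)) W) :
    bsec q N W (u • e) x = bsec q N W e (bsec q (Coh.structureModule V) W (u • one V (q ⁻¹ᵁ W)) x) := by
  rw [bsec_apply, bsec_apply, bsec_apply, AddEquiv.symm_apply_apply, toO_smul, toO_smul, toO_one, mul_one, mul_smul]

theorem bsec_mul {W : S.Opens} (u u' : Γ(V, q ⁻¹ᵁ W))
    (x : Sec ((Coh.push q).obj (Coh.structureModule V)) W) :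
    bsec q (Coh.structureModule V) W ((u * u') • one V (q ⁻¹ᵁ W)) x =
      bsec q (Coh.structureModule V) W (u' • one V (q ⁻¹ᵁ W))
        (bsec q (Coh.structureModule V) W (u • one V (q ⁻¹ᵁ W)) x) := by
  rw [← bsec_smul, smul_smul]

/-- The determinant of the direct image of a tensor product. -/
theorem det_push_mul [IsFinite q] {d : ℕ}
    (hO : FlatMod.IsFinLocFreeOfRank d ((Coh.push q).obj (Coh.structureModule V)))
    {N N' : V.Modules} (hN : PicF.IsInvertible N) (hN' : PicF.IsInvertible N')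
    (hT : PicF.IsInvertible (CohB1.tensorMod N N')) :
    det d _ (rank_push q hO hT) * det d _ hO = det d _ (rank_push q hO hN) * det d _ (rank_push q hO hN') := by
  have hcov : ∀ x : S, ∃ (W : S.affineOpens) (b : Fin d → Sec ((Coh.push q).obj (Coh.structureModule V)) W.1)
      (e : Sec N (q ⁻¹ᵁ W.1)) (e' : Sec N' (q ⁻¹ᵁ W.1)), x ∈ W.1 ∧ IsLocBasis b ∧ IsGen e ∧ IsGen e' := by
    intro x
    obtain ⟨W, -, b, e, hx, -, he⟩ := exists_gen_basis q hO hN (x := x) (W₀ := ⊤) trivial
    obtain ⟨W', hW', b', e', hx', hb', he'⟩ := exists_gen_basis q hO hN' (x := x) (W₀ := W.1) hx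
    exact ⟨W', b', res N (q.preimage_mono hW') e, e', hx', hb', he.restrict _, he'⟩
  choose W b e e' hx hb he he' using hcov
  have hB : ∀ x : S, ∃ i, x ∈ (W i).1 := fun x => ⟨x, hx x⟩
  choose a ha using fun i j => exists_matrix (W := (W i).1 ⊓ (W j).1) (b i) (hb j) inf_le_left inf_le_right
  choose u hu using fun i j => exists_unit (W := q ⁻¹ᵁ ((W i).1 ⊓ (W j).1)) (e i) (he j)
    (q.preimage_mono inf_le_left) (q.preimage_mono inf_le_right)
  choose u' hu' using fun i j => exists_unit (W := q ⁻¹ᵁ ((W i).1 ⊓ (W j).1)) (e' i) (he' j)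
    (q.preimage_mono inf_le_left) (q.preimage_mono inf_le_right)
  choose U hU using fun i j => exists_mul_matrix q (hb j) (inf_le_right : (W i).1 ⊓ (W j).1 ≤ _) (u i j)
  choose U' hU' using fun i j => exists_mul_matrix q (hb j) (inf_le_right : (W i).1 ⊓ (W j).1 ≤ _) (u' i j)
  have ext := fun {E : S.Modules} (hE : FlatMod.IsFinLocFreeOfRank d E) =>
    Groth.Agent.Dual.H366.ExtQCoh.isExtPow_ext (isQCoh_of_rank hE) d
  have h0 := isCoc_det W b hb (fun i j => Matrix.of (a i j)) ha (ext hO) (isInvertible_of_isExtPow hO (ext hO))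
  -- the general computation
  have key : ∀ {P : V.Modules} (hP : PicF.IsInvertible P) (p : ∀ i, Sec P (q ⁻¹ᵁ (W i).1)) (_ : ∀ i, IsGen (p i))
      (w : ∀ i j, Γ(V, q ⁻¹ᵁ ((W i).1 ⊓ (W j).1)))
      (_ : ∀ i j, res P (q.preimage_mono inf_le_left) (p i) = w i j • res P (q.preimage_mono inf_le_right) (p j))
      (Y : ∀ i j, Matrix (Fin d) (Fin d) Γ(S, (W i).1 ⊓ (W j).1))
      (_ : ∀ i j k, bsec q (Coh.structureModule V) ((W i).1 ⊓ (W j).1) (w i j • one V (q ⁻¹ᵁ ((W i).1 ⊓ (W j).1)))
        (res _ inf_le_right (b j k)) = ∑ l, Y i j k l • res _ inf_le_right (b j l)),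
      IsCoc (fun i => (W i).1) (det d _ (rank_push q hO hP)) (fun i j => (Matrix.of (a i j) * Y i j).det) := by
    intro P hP p hp w hw Y hY
    refine isCoc_det W (fun i k => bsec q P _ (p i) (b i k)) (fun i => isLocBasis_bsec q (hp i) (hb i))
      (fun i j => Matrix.of (a i j) * Y i j) ?_ (ext (rank_push q hO hP))
      (isInvertible_of_isExtPow (rank_push q hO hP) (ext (rank_push q hO hP)))
    intro i j k
    rw [res_bsec, hw, bsec_smul, ha i j k]
    simp only [map_sum, map_smul]
    rw [Finset.sum_congr rfl fun l _ => by rw [hY i j l, map_sum, Finset.smul_sum], Finset.sum_comm]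
    refine Finset.sum_congr rfl fun m _ => ?_
    rw [Matrix.mul_apply, Finset.sum_smul]
    refine Finset.sum_congr rfl fun l _ => ?_
    rw [map_smul, res_bsec, smul_smul]
    rfl
  have h1 := key hN e he u hu U hU
  have h2 := key hN' e' he' u' hu' U' hU'
  have h3 := key hT (fun i => tau N N' _ (e i ⊗ₜ e' i)) (fun i => isGen_tau (he i) (he' i))
    (fun i j => u i j * u' i j) (fun i j => by
      rw [← tau_tres, ← tau_tres, tres_tmul, tres_tmul, hu i j, hu' i j, tau_smul_smul])
    (fun i j => U i j * U' i j) (fun i j k => by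
      rw [bsec_mul, hU i j k, map_sum]
      rw [Finset.sum_congr rfl fun l _ => by rw [map_smul, hU' i j l, Finset.smul_sum], Finset.sum_comm]
      refine Finset.sum_congr rfl fun m _ => ?_
      rw [Matrix.mul_apply, Finset.sum_smul]
      refine Finset.sum_congr rfl fun l _ => ?_
      rw [smul_smul])
  refine IsCoc.eq hB (h3.mul h0) ?_
  have h4 := h1.mul h2
  have h5 : (fun i j => (Matrix.of (a i j) * U i j).det * (Matrix.of (a i j) * U' i j).det) =
      fun i j => (Matrix.of (a i j) * (U i j * U' i j)).det * (Matrix.of (a i j)).det := by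
    funext i j
    simp only [Matrix.det_mul]
    ring
  rw [← h5]
  exact h4

/-- The norm homomorphism. -/
noncomputable def nrm [IsFinite q] {d : ℕ}
    (hO : FlatMod.IsFinLocFreeOfRank d ((Coh.push q).obj (Coh.structureModule V))) :
    PicGrp.Pic V →* PicGrp.Pic S where
  toFun c := det d _ (rank_push q hO (PicGrp.exists_mk c).choose_spec.choose) * (det d _ hO)⁻¹
  map_one' := by
    rw [mul_inv_eq_one]
    refine det_congr _ _ rfl ((Coh.push q).mapIso (Nonempty.some ?_))
    exact ((PicGrp.mk_eq_iff _ Groth.Agent.Fdesc.LocGen.isInvertible_structureModule).mp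
      ((PicGrp.exists_mk (1 : PicGrp.Pic V)).choose_spec.choose_spec.symm.trans PicGrp.one_def))
  map_mul' c c' := by
    obtain ⟨N, hN, h1⟩ : ∃ N hN, c = PicGrp.mk N hN := PicGrp.exists_mk c
    have hc := (PicGrp.exists_mk c).choose_spec.choose_spec
    have hc' := (PicGrp.exists_mk c').choose_spec.choose_spec
    have hcc := (PicGrp.exists_mk (c * c')).choose_spec.choose_spec
    have hT : PicF.IsInvertible (CohB1.tensorMod (PicGrp.exists_mk c).choose (PicGrp.exists_mk c').choose) :=
      Groth.Agent.Fdesc.LocGen.isInvertible_tensorMod (PicGrp.exists_mk c).choose_spec.choose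
        (PicGrp.exists_mk c').choose_spec.choose
    have h2 : det d _ (rank_push q hO (PicGrp.exists_mk (c * c')).choose_spec.choose) =
        det d _ (rank_push q hO hT) := by
      refine det_congr _ _ rfl ((Coh.push q).mapIso (Nonempty.some ?_))
      refine (PicGrp.mk_eq_iff (PicGrp.exists_mk (c * c')).choose_spec.choose hT).mp ?_
      rw [← hcc]
      refine Eq.trans ?_ (PicGrp.mk_mul_mk (PicGrp.exists_mk c).choose_spec.choose
        (PicGrp.exists_mk c').choose_spec.choose)
      rw [← hc, ← hc']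
    have h3 := det_push_mul q hO (PicGrp.exists_mk c).choose_spec.choose (PicGrp.exists_mk c').choose_spec.choose hT
    rw [h2, mul_mul_mul_comm, ← h3]
    group

theorem nrm_mk [IsFinite q] {d : ℕ}
    (hO : FlatMod.IsFinLocFreeOfRank d ((Coh.push q).obj (Coh.structureModule V)))
    {N : V.Modules} (hN : PicF.IsInvertible N) :
    nrm q hO (PicGrp.mk N hN) = det d _ (rank_push q hO hN) * (det d _ hO)⁻¹ := by
  change det d _ (rank_push q hO (PicGrp.exists_mk (PicGrp.mk N hN)).choose_spec.choose) * (det d _ hO)⁻¹ = _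
  rw [mul_left_inj]
  refine det_congr _ _ rfl ((Coh.push q).mapIso (Nonempty.some ?_))
  exact ((PicGrp.mk_eq_iff _ hN).mp (PicGrp.exists_mk (PicGrp.mk N hN)).choose_spec.choose_spec.symm)

/-- If `N ^ (2 m)` is trivial then `(det q_* N) ^ m = (det q_* N⁻¹) ^ m`. -/
theorem det_push_pow [IsFinite q] {d : ℕ}
    (hO : FlatMod.IsFinLocFreeOfRank d ((Coh.push q).obj (Coh.structureModule V)))
    {N N' : V.Modules} (hN : PicF.IsInvertible N) (hN' : PicF.IsInvertible N')
    (h : PicGrp.mk N hN * PicGrp.mk N' hN' = 1) (m : ℕ) (ht : PicGrp.mk N hN ^ (2 * m) = 1) :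
    det d _ (rank_push q hO hN) ^ m = det d _ (rank_push q hO hN') ^ m := by
  have h1 := nrm_mk q hO hN
  have h2 := nrm_mk q hO hN'
  have h3 : nrm q hO (PicGrp.mk N hN) ^ m = nrm q hO (PicGrp.mk N' hN') ^ m := by
    rw [eq_inv_of_mul_eq_one_right h, map_inv, inv_pow, eq_inv_iff_mul_eq_one, ← pow_add, ← two_mul, ← map_pow, ht,
      map_one]
  rw [h1, h2, mul_pow, mul_pow] at h3
  exact mul_right_cancel h3

end K450.KeyNorm
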