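import Groth.Agent.AbSch.K450.KeyShear
import Groth.Agent.AbSch.K450.KeyAb
import Groth.Agent.AbSch.K450.KeyNorm
import Groth.Agent.AbSch.K450.KeyPush

/-!
# The key formula for an isogeny onto a principally polarized abelian scheme
-/

set_option autoImplicit false
universe u
open CategoryTheory CategoryTheory.Limits AlgebraicGeometry MonoidalCategory CartesianMonoidalCategory MonObj

namespace K450.KeyMain

open Groth.Agent Groth.Agent.Grpsch Groth.Agent.Grpsch.PicGrp K451.DetPic K451.TopV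
open K449.Cube (pl pl_comp)

/-- The computation in the Picard group. -/
theorem pow_identity {G : Type*} [CommGroup G] (Qp Qm J R₁ R₂ D H ωA ωB : G) (d m : ℕ)
    (hα : Qp * J ^ d = R₁ * H ^ d) (hβ : Qm * J ^ d = R₂ ^ d * D) (hA : R₁ * D * ωA ^ d = 1)
    (hB : R₂ * H * ωB = 1) (hn : Qp ^ m = Qm ^ m) : (D ^ 2 * ωA ^ d) ^ m = (H ^ 2 * ωB) ^ (m * d) := by
  apply Additive.ofMul.injective
  have h1 := congrArg Additive.ofMul hα
  have h2 := congrArg Additive.ofMul hβ
  have h3 := congrArg Additive.ofMul hA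
  have h4 := congrArg Additive.ofMul hB
  have h5 := congrArg Additive.ofMul hn
  simp only [ofMul_mul, ofMul_pow, ofMul_one] at h1 h2 h3 h4 h5 ⊢
  have h1' := congrArg (fun x => (m : ℤ) • x) h1
  have h2' := congrArg (fun x => (m : ℤ) • x) h2
  have h3' := congrArg (fun x => (m : ℤ) • x) h3
  have h4' := congrArg (fun x => ((m * d : ℕ) : ℤ) • x) h4
  simp only [← natCast_zsmul] at h1' h2' h3' h4' h5 ⊢
  push_cast at h4' ⊢
  linear_combination (norm := module) h1' - h2' + h3' - h4' - h5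

variable {S : Scheme.{u}}

open scoped Groth.Agent.Dcoh.MonCat in
theorem rank_of_tensor {d : ℕ} {E J : S.Modules} (hJ : PicF.IsInvertible J)
    (h : FlatMod.IsFinLocFreeOfRank d (CohB1.tensorMod E J)) : FlatMod.IsFinLocFreeOfRank d E := by
  obtain ⟨J', hJ', ⟨e⟩⟩ := PicGrp.exists_inverse hJ
  have h1 := rank_tensor h (rank_one_iff.mpr hJ')
  rw [_root_.mul_one] at h1
  let eu : 𝟙_ S.Modules ≅ J ⊗ J' := e.symm
  exact rank_of_iso ((ρ_ E).symm ≪≫ whiskerLeftIso E eu ≪≫ (α_ E J J').symm).symm h1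

section Half

variable {A B : Over S} [Flat A.hom]

/-- The direct image of an external product computed by a shear. -/
theorem half {g : ℕ} {V : Scheme.{u}} (i : V ⟶ B.left) {J : S.Modules} (hJ : FlatMod.IsFinLocFree J)
    {F : (pullback A.hom B.hom).Modules} (hF : PicF.IsInvertible F)
    (hlow : ∀ p < g, IsZero ((Coh.Rpush (pullback.snd A.hom B.hom) p).obj F))
    (e : (Coh.Rpush (pullback.snd A.hom B.hom) g).obj F ≅
      (Coh.push i).obj ((Scheme.Modules.pullback (i ≫ B.hom)).obj J))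
    [QuasiCompact A.hom] [QuasiSeparated A.hom] [QuasiCompact B.hom] [QuasiSeparated B.hom]
    {M' : B.left.Modules} (hM' : PicF.IsInvertible M') {L' : A.left.Modules} (hL' : PicF.IsInvertible L')
    (σ : A ⊗ B ⟶ A ⊗ B) [IsIso σ.left]
    (h : (mk F hF : PicGrp.Pic (A ⊗ B).left) * pl (snd A B) (mk M' hM') =
      pl σ (pl (fst A B) (mk L' hL') * pl (snd A B) (mk M' hM'))) :
    Nonempty ((Coh.Rpush (pullback.snd A.hom B.hom ≫ B.hom) g).obj
      (CohB1.tensorMod ((Scheme.Modules.pullback (pullback.fst A.hom B.hom)).obj L')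
        ((Scheme.Modules.pullback (pullback.snd A.hom B.hom)).obj M')) ≅
      CohB1.tensorMod ((Coh.push (i ≫ B.hom)).obj ((Scheme.Modules.pullback i).obj M')) J) := by
  have := Groth.Agent.Dcoh.DerSch.hasInjectiveResolutions (pullback A.hom B.hom)
  have hM'f : FlatMod.IsFinLocFree M' := isFinLocFree_of_rank (rank_one_iff.mpr hM')
  obtain ⟨e1⟩ := K450.KeyPush.nonempty_conc (pullback.snd A.hom B.hom) B.hom i F hM'f g hlow hJ e
  let f : pullback A.hom B.hom ⟶ S := pullback.snd A.hom B.hom ≫ B.hom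
  let E : (pullback A.hom B.hom).Modules :=
    CohB1.tensorMod ((Scheme.Modules.pullback (pullback.fst A.hom B.hom)).obj L')
        ((Scheme.Modules.pullback (pullback.snd A.hom B.hom)).obj M')
  let σ' : pullback A.hom B.hom ⟶ pullback A.hom B.hom := σ.left
  have hσ : IsIso σ' := inferInstanceAs (IsIso σ.left)
  have hσf : σ' ≫ f = f := by
    have h1 : σ.left ≫ (A ⊗ B).hom = (A ⊗ B).hom := Over.w σ
    have h2 : (A ⊗ B).hom = f := pullback.condition
    rwa [h2] at h1
  have hEi : PicF.IsInvertible E := Groth.Agent.Fdesc.LocGen.isInvertible_tensorMod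
    (Groth.Agent.Fdesc.LocGen.isInvertible_pullback _ hL') (Groth.Agent.Fdesc.LocGen.isInvertible_pullback _ hM')
  have hFM : PicF.IsInvertible (CohB1.tensorMod F ((Scheme.Modules.pullback (pullback.snd A.hom B.hom)).obj M')) :=
    Groth.Agent.Fdesc.LocGen.isInvertible_tensorMod hF (Groth.Agent.Fdesc.LocGen.isInvertible_pullback _ hM')
  have : Coh.IsQCoh E := Ega2.QCohLocal.isQCoh_of_isInvertible hEi
  have hE2 : PicF.IsInvertible ((Scheme.Modules.pullback σ').obj E) :=
    Groth.Agent.Fdesc.LocGen.isInvertible_pullback _ hEi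
  have e2 : Nonempty (CohB1.tensorMod F ((Scheme.Modules.pullback (pullback.snd A.hom B.hom)).obj M') ≅
      (Scheme.Modules.pullback σ').obj E) := by
    rw [← mk_eq_iff hFM hE2]
    have h3 : mk ((Scheme.Modules.pullback σ').obj E) hE2 = pull σ' (mk E hEi) := (pull_mk σ' hEi).symm
    have h4 : mk E hEi = pull (pullback.fst A.hom B.hom) (mk L' hL') * pull (pullback.snd A.hom B.hom) (mk M' hM') := by
      rw [pull_mk, pull_mk]
      exact (mk_mul_mk _ _).symm
    have h5 : mk _ hFM = mk F hF * pull (pullback.snd A.hom B.hom) (mk M' hM') := by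
      rw [pull_mk]
      exact (mk_mul_mk _ _).symm
    rw [h3, h4, h5]
    exact h
  obtain ⟨e2⟩ := e2
  obtain ⟨e3⟩ := K450.KeyPush.nonempty_iso (σ := σ') f E g
  exact ⟨e3 ≪≫ eqToIso (by rw [hσf]) ≪≫ (Coh.Rpush f g).mapIso e2.symm ≪≫ e1⟩

end Half

open K451.OmegaBox (om) in
/-- **The key formula for an isogeny onto a principally polarized abelian scheme**, in the Picard group. -/
theorem key [IsLocallyNoetherian S] {A B : Over S} [GrpObj A] [IsCommMonObj A] [GrpObj B] [IsCommMonObj B] {g : ℕ}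
    (hA : AgPol.IsAbSch A g) (hB : AgPol.IsAbSch B g) (lam : A ⟶ B) [IsMonHom lam] [IsFinite lam.left]
    [Flat lam.left] [Surjective lam.left] (m : ℕ)
    (hker : ∀ (T : Over S) (x : T ⟶ A), x ≫ lam = 1 → x ^ m = 1)
    {M : B.left.Modules} (hM : PicF.IsInvertible M)
    (hrig : pull (K451.TopSide.et B) (mk M hM) = 1) (hsym : pl (𝟙 B ^ (-1 : ℤ)) (mk M hM) = mk M hM)
    (hamp : RelAmple.IsRelAmple B.hom M) (hpr : PicF.IsInvertible ((Coh.push B.hom).obj M))
    (hM0 : ∀ i, 0 < i → IsZero ((Coh.Rpush B.hom i).obj M))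
    {L : A.left.Modules} (hL : PicF.IsInvertible L) (hLM : mk L hL = pl lam (mk M hM))
    (hL0 : ∀ i, 0 < i → IsZero ((Coh.Rpush A.hom i).obj L))
    {d : ℕ} (hd : FlatMod.IsFinLocFreeOfRank d ((Coh.push A.hom).obj L))
    {ωA ωB : S.Modules} (hωA : ExtPow.IsExtPow g (om A) ωA) (hωAi : PicF.IsInvertible ωA)
    (hωB : ExtPow.IsExtPow g (om B) ωB) (hωBi : PicF.IsInvertible ωB) :
    (det d _ hd ^ 2 * mk ωA hωAi ^ d) ^ m = (mk _ hpr ^ 2 * mk ωB hωBi) ^ (m * d) := by
  have := hA.proper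
  have := hA.smooth
  have := hB.proper
  have := hB.smooth
  have hgA : GeometricallyIntegral A.hom := K451.Prod.geometricallyIntegral_of_isAbSch hA
  have hgB : GeometricallyIntegral B.hom := K451.Prod.geometricallyIntegral_of_isAbSch hB
  have := Groth.Agent.Dcoh.DerSch.hasInjectiveResolutions (pullback A.hom B.hom)
  have := Groth.Agent.Dcoh.DerSch.hasInjectiveResolutions A.left
  have := Groth.Agent.Dcoh.DerSch.hasInjectiveResolutions B.left
  obtain ⟨V, i, hi, hfin, hloc, htor⟩ := K451.TopV.exists_locus hA hB lam m hker hM hrig hsym hamp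
  obtain ⟨F, hF, hζ⟩ := exists_mk (zet lam (mk M hM))
  obtain ⟨hlow, ⟨e⟩⟩ := hloc F hF hζ.symm
  let J := (Coh.Rpush A.hom g).obj (Coh.structureModule A.left)
  have hJi : PicF.IsInvertible J := K451.TopInv.isInvertible_topO A hA
  have hJ : FlatMod.IsFinLocFree J := isFinLocFree_of_rank (rank_one_iff.mpr hJi)
  obtain ⟨M', hM', hMM'⟩ := exists_mk (mk M hM)⁻¹
  obtain ⟨L', hL', hLL'⟩ := exists_mk (mk L hL)⁻¹
  obtain ⟨hA0, hdA, hAid⟩ := KeyAb.dual_inv hA hωA hωAi hL hL' (by rw [← hLL', mul_inv_cancel]) hL0 hd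
  obtain ⟨hB0, hdB, hBid⟩ := KeyAb.dual_inv hB hωB hωBi hM hM' (by rw [← hMM', mul_inv_cancel]) hM0
    (rank_one_iff.mpr hpr)
  have vb : ∀ {X : Scheme.{u}} {N : X.Modules}, PicF.IsInvertible N → FlatMod.IsFinLocFree N := fun h =>
    isFinLocFree_of_rank (rank_one_iff.mpr h)
  have qc : ∀ {X : Scheme.{u}} {N : X.Modules}, PicF.IsInvertible N → Coh.IsQCoh N := fun h =>
    Ega2.QCohLocal.isQCoh_of_isInvertible h
  have q1 := qc hM
  have q2 := qc hL
  have hq := IsPullback.of_hasPullback A.hom B.hom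

  obtain ⟨a1⟩ := half (A := A) (B := B) i hJ hF (fun p hp => hlow p hp.ne) e hM hL' (K450.KeyShear.sh lam) (by
    rw [← hLL', hLM, ← K450.KeyShear.zet_mul_pos, hζ])
  obtain ⟨a2⟩ := K450.KeyPush.nonempty_box hq (vb hL') hM0 (vb hpr) g
  obtain ⟨b1⟩ := half (A := A) (B := B) i hJ hF (fun p hp => hlow p hp.ne) e hM' hL (K450.KeyShear.sh lam⁻¹) (by
    rw [← hMM', hLM, ← K450.KeyShear.zet_mul_neg hrig hsym, hζ])
  obtain ⟨b2⟩ := K450.KeyPush.nonempty_box hq.flip (vb hM') hL0 (isFinLocFree_of_rank hd) g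
  have hcond : pullback.fst A.hom B.hom ≫ A.hom = pullback.snd A.hom B.hom ≫ B.hom := pullback.condition
  have hiM : PicF.IsInvertible ((Scheme.Modules.pullback i).obj M) := Groth.Agent.Fdesc.LocGen.isInvertible_pullback _ hM
  have hiM' : PicF.IsInvertible ((Scheme.Modules.pullback i).obj M') :=
    Groth.Agent.Fdesc.LocGen.isInvertible_pullback _ hM'
  let q := i ≫ B.hom
  have eα : CohB1.tensorMod ((Coh.push q).obj ((Scheme.Modules.pullback i).obj M)) J ≅
      CohB1.tensorMod ((Coh.Rpush A.hom g).obj L') ((Coh.push B.hom).obj M) :=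
    a1.symm ≪≫ eqToIso (by rw [hcond]) ≪≫ a2
  have eβ : CohB1.tensorMod ((Coh.push q).obj ((Scheme.Modules.pullback i).obj M')) J ≅
      CohB1.tensorMod ((Coh.Rpush B.hom g).obj M') ((Coh.push A.hom).obj L) :=
    b1.symm ≪≫ (Coh.Rpush _ g).mapIso (Ega2.Tens.swap _ _) ≪≫ b2
  have r1 : FlatMod.IsFinLocFreeOfRank d ((Coh.push q).obj ((Scheme.Modules.pullback i).obj M)) := by
    have h1 := rank_of_iso eα.symm (rank_tensor hdA (rank_one_iff.mpr hpr))
    rw [_root_.mul_one] at h1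
    exact rank_of_tensor hJi h1
  have hO := K450.KeyNorm.rank_unit q hiM r1
  have r2 := K450.KeyNorm.rank_push q hO hiM'
  have dα : det (d * 1) _ (rank_tensor r1 (rank_one_iff.mpr hJi)) = det (d * 1) _ (rank_tensor hdA (rank_one_iff.mpr hpr)) :=
    det_congr _ _ rfl eα
  have dβ : det (d * 1) _ (rank_tensor r2 (rank_one_iff.mpr hJi)) = det (1 * d) _ (rank_tensor hdB hd) :=
    det_congr _ _ (_root_.mul_comm _ _) eβ
  rw [det_tensor r1 (rank_one_iff.mpr hJi), det_tensor hdA (rank_one_iff.mpr hpr), det_one _ hJi, det_one _ hpr,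
    pow_one, pow_one] at dα
  rw [det_tensor r2 (rank_one_iff.mpr hJi), det_tensor hdB hd, det_one _ hJi, pow_one, pow_one] at dβ
  rw [det_one _ hpr, pow_one] at hBid
  have hn := K450.KeyNorm.det_push_pow q hO hiM hiM' (by
    rw [← pull_mk i hM, ← pull_mk i hM', ← map_mul, ← hMM', mul_inv_cancel, map_one]) m (by
    rw [← pull_mk i hM]
    exact htor)
  exact pow_identity _ _ _ _ _ _ _ _ _ d m dα dβ hAid hBid hn

end K450.KeyMain
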