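import Groth.Agent.AbSch.K450.TorsKer
import Groth.Agent.AbVar.K511.AmpleVan
import Groth.Agent.Coherent.K54.PushH1
import Groth.Agent.S12128
import Groth.Agent.Ega3B.ChiFib

/-!
# Base change for a relatively ample invertible module on an abelian scheme
-/

set_option autoImplicit false
universe u

open CategoryTheory CategoryTheory.Limits MonoidalCategory CartesianMonoidalCategory MonObj AlgebraicGeometry
open TopologicalSpace

namespace K450.VanBC

open K55 K55.Pack K55.KerAlg K54.PushSec K54.PushBC in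
/-- Vanishing of `H^1` of the fibre at `y` gives base change near `y`. -/
theorem exists_nhd {X Y : Scheme.{u}} (π : X ⟶ Y) [IsProper π] [LocallyOfFinitePresentation π] (F : X.Modules)
    (hF : Coh.IsQCoh F) (hfp : CohB1.IsFP F) (hfl : FlatMod.IsFlatOver π F) (y : Y)
    (hy : Subsingleton (CohIII.fiberH π F y 1)) :
    ∃ U : Y.Opens, y ∈ U ∧ FlatMod.IsFinLocFree (((Scheme.Modules.pushforward π).obj F).restrict U.ι) ∧
      ∀ {X' Z : Scheme.{u}} (f : X' ⟶ X) (ζ : X' ⟶ Z) (α : Z ⟶ Y) (h : IsPullback f ζ π α),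
        (∀ z : Z, α z ∈ U) → IsIso (CohBC.bc0 π α ζ f h.w F) := by
  obtain ⟨V, hV, hyV, -⟩ := exists_isAffineOpen_mem_and_subset (x := y) (U := ⊤) trivial
  obtain ⟨K, hK⟩ := exists_compData π F hfp hfl hV
  have hs := secData π F hV K hK
  have hm := (of_subsingleton_ker (K.exact 1) (K.surj 1) (hV.primeIdealOf ⟨y, hyV⟩)
    (K54.PushH1.subsingleton_HB π F hF hV K hK ⟨y, hyV⟩ 1 hy)).2.1
  obtain ⟨U, hyU, hU, hbc⟩ := K54.PushBC.exists_nhd π F hF hV K hs ⟨y, hyV⟩ hm
  exact ⟨U, hyU, hU, fun f ζ α h hz => (Groth.Agent.CohqA.PullbackUniv.isUniv_iff_isIso α _).1 (hbc f ζ α h hz)⟩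

section AbSch

variable {S : Scheme.{u}} (A : Over S) [GrpObj A] [Smooth A.hom] [IsProper A.hom] [GeometricallyConnected A.hom]

attribute [local instance] Functor.grpObjObj in
/-- `H^1` of the fibres of a relatively ample module vanishes. -/
theorem subsingleton_fiberH {L : A.left.Modules} (hL : PicF.IsInvertible L) (hamp : RelAmple.IsRelAmple A.hom L)
    (s : S) (j : ℕ) (hj : 0 < j) : Subsingleton (CohIII.fiberH A.hom L s j) := by
  have hgi := K814.AbBasic.geometricallyIntegral A
  let G := (Over.pullback (S.fromSpecResidueField s)).obj A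
  have h1 : IsProper G.hom := inferInstanceAs (IsProper (pullback.snd A.hom (S.fromSpecResidueField s)))
  have h3 : GeometricallyIntegral G.hom :=
    inferInstanceAs (GeometricallyIntegral (pullback.snd A.hom (S.fromSpecResidueField s)))
  have h4 := (Groth.Agent.S12128.result A.hom L hL).1 hamp s
  exact K511.AmpleVan.vanish (K := S.residueField s) G ((Scheme.Modules.pullback (A.hom.fiberι s)).obj L) h4 j hj

/-- The base change maps at the points. -/
theorem isIso_bc0 {L : A.left.Modules} (hL : PicF.IsInvertible L) (hamp : RelAmple.IsRelAmple A.hom L) (s : S) :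
    IsIso (CohBC.bc0 A.hom (S.fromSpecResidueField s) (A.hom.fiberToSpecResidueField s)
      (A.hom.fiberι s) (A.hom.fiber_fac s) L) := by
  obtain ⟨U, hsU, -, h⟩ := exists_nhd A.hom L (Groth.Agent.Ega2.QCohLocal.isQCoh_of_isInvertible hL)
    (Groth.Agent.Ega3B.ChiFib.isFP_of_isInvertible hL)
    (Groth.Agent.Ega3B.NearFibre.isFlatOver_of_isInvertible A.hom hL) s
    (subsingleton_fiberH A hL hamp s 1 one_pos)
  exact h (A.hom.fiberι s) (A.hom.fiberToSpecResidueField s) (S.fromSpecResidueField s)
    (IsPullback.of_hasPullback _ _) fun z => by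
      have : (S.fromSpecResidueField s) z = s := Scheme.fromSpecResidueField_apply s z
      rwa [this]

end AbSch

end K450.VanBC
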