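import Groth.Agent.AbSch.K450.MinorFam
import Groth.Agent.AbVar.K524.PicInv
import Groth.Agent.Divis.NormAmple

/-!
# Global generation of powers of the inverse determinant
-/

set_option autoImplicit false
universe u

open CategoryTheory CategoryTheory.Limits AlgebraicGeometry Opposite TopologicalSpace
open scoped TensorProduct
open Groth.Agent.Sga67 Groth.Agent.Sga67.Sec Groth.Agent.Sga67.LocBasis
open Groth.Agent.Grpsch Groth.Agent.Krr.H487.LocBasisPull
open Groth.Agent.Flat2H.FamExt Groth.Agent.Flat2H.FamDict Groth.Agent.Divis.AmpleAvoid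

namespace K450.DetGG

section Triv

variable {X : Scheme.{u}} {ι : Type u} {W : ι → X.Opens}

theorem trivs_of_isCoc (hW : ∀ x : X, ∃ i, x ∈ W i) {L : X.Modules} (hL : PicF.IsInvertible L)
    {t : ∀ i j, Γ(X, W i ⊓ W j)} (h : K451.Coc.IsCoc W (PicGrp.mk L hL) t) : Trivs L W t := by
  obtain ⟨L', hL', l, hc, hl, ht⟩ := h
  obtain ⟨e⟩ := (PicGrp.mk_eq_iff _ _).1 hc.symm
  have h1 : Trivs L' W t := ⟨hW, l, hl, ht⟩
  exact h1.of_iso e

theorem isCoc_of_trivs {L : X.Modules} (hL : PicF.IsInvertible L) {t : ∀ i j, Γ(X, W i ⊓ W j)} (h : Trivs L W t) :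
    K451.Coc.IsCoc W (PicGrp.mk L hL) t := by
  obtain ⟨-, l, hl, ht⟩ := h
  exact ⟨L, hL, l, rfl, hl, ht⟩

/-- The inverse cocycle. -/
theorem exists_trivs_inv {D D' : X.Modules} {t : ∀ i j, Γ(X, W i ⊓ W j)} (hT : Trivs D W t)
    (hDD' : ClSub.IsInverseOf D D') : ∃ t' : ∀ i j, Γ(X, W i ⊓ W j), Trivs D' W t' ∧ ∀ i j, t i j * t' i j = 1 := by
  have hD := hT.isInvertible
  have hD' : PicF.IsInvertible D' := K524.PicInv.isInvertible_of_inv hD hDD'.some
  let t' : ∀ i j, Γ(X, W i ⊓ W j) := fun i j => ↑(hT.isUnit i j).unit⁻¹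
  have htt : ∀ i j, t i j * t' i j = 1 := fun i j => (hT.isUnit i j).mul_val_inv
  obtain ⟨M, hM⟩ := Groth.Agent.Divis.NormAmple.exists_trivs_of_cocycle W hT.1 t'
    (fun i => by
      have h1 := htt i i
      rwa [hT.self i, one_mul] at h1)
    (fun i j k => by
      have h1 := hT.cocycle i j k (V := W i ⊓ (W j ⊓ W k)) inf_le_left (inf_le_right.trans inf_le_left)
        (inf_le_right.trans inf_le_right)
      have h2 := congrArg (Groth.Agent.Fdesc.LocGen.ores (V := W i ⊓ (W j ⊓ W k)) (by gcongr; exact inf_le_left)) (htt i j)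
      have h3 := congrArg (Groth.Agent.Fdesc.LocGen.ores (V := W i ⊓ (W j ⊓ W k)) inf_le_right) (htt j k)
      have h4 := congrArg (Groth.Agent.Fdesc.LocGen.ores (V := W i ⊓ (W j ⊓ W k)) (by gcongr; exact inf_le_right)) (htt i k)
      rw [map_mul, map_one] at h2 h3 h4
      refine left_inv_eq_right_inv (a := Groth.Agent.Fdesc.LocGen.ores (V := W i ⊓ (W j ⊓ W k))
        (by gcongr; exact inf_le_right) (t i k)) ?_ h4
      rw [← h1]
      calc _ = (Groth.Agent.Fdesc.LocGen.ores _ (t i j) * Groth.Agent.Fdesc.LocGen.ores _ (t' i j)) *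
            (Groth.Agent.Fdesc.LocGen.ores _ (t j k) * Groth.Agent.Fdesc.LocGen.ores _ (t' j k)) := by ring
        _ = 1 := by rw [h2, h3, one_mul])
  refine ⟨t', ?_, htt⟩
  have hMi := hM.isInvertible
  have h1 := (isCoc_of_trivs hD hT).mul (isCoc_of_trivs hMi hM)
  have h2 : (fun i j => t i j * t' i j) = fun i j => (1 : Γ(X, W i ⊓ W j)) := by
    funext i j
    exact htt i j
  rw [h2] at h1
  have h3 := h1.eq hT.1 K451.Coc.isCoc_one
  have h4 : PicGrp.mk D hD * PicGrp.mk D' hD' = 1 := by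
    rw [PicGrp.mk_mul_mk, PicGrp.mk_eq_one_iff]
    exact hDD'
  have h5 : PicGrp.mk M hMi = PicGrp.mk D' hD' := mul_left_cancel (h3.trans h4.symm)
  exact hM.of_iso ((PicGrp.mk_eq_iff _ _).1 h5).some

end Triv

theorem exists_gg {S S' : Scheme.{u}} [CompactSpace S] (π : S' ⟶ S) [IsFinite π] {δ : ℕ} (N : Nrm.NormOfDegree π δ)
    (h2 : ∀ x : S', (2 : S'.residueField x) ≠ 0) {E : S.Modules} {r d : ℕ} (hE : FlatMod.IsFinLocFreeOfRank d E)
    (v : (Scheme.Modules.pullback π).obj E ⟶ FlatMod.freeMod S' r) [Mono v] (hv : FlatMod.IsFinLocFree (cokernel v))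
    {D D' : S.Modules} (hD : ExtPow.IsExtPow d E D) (hDD' : ClSub.IsInverseOf D D') :
    ∃ n : ℕ, 0 < n ∧ Curv2.IsGloballyGenerated (CohB1.tensorPow D' n) := by
  have hDi := K451.DetMat.isInvertible_of_isExtPow hE hD
  choose V _ b hx hb using fun x : S => K451.DetMat.exists_affine_basis hE (U := ⊤) (x := x) trivial
  have hB : ∀ x : S, ∃ i, x ∈ (V i).1 := fun x => ⟨x, hx x⟩
  choose a ha using fun i j => K451.DetMat.exists_matrix (W := (V i).1 ⊓ (V j).1) (b i) (hb j) inf_le_left inf_le_right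
  have h1 := K451.DetMat.isCoc_det V b hb (fun i j => Matrix.of (a i j)) ha hD hDi
  obtain ⟨t', ht', htt⟩ := exists_trivs_inv (trivs_of_isCoc hB hDi h1) hDD'
  refine NormGG.exists_gg π N h2 ht' fun x => ?_
  obtain ⟨i, hi⟩ := hB (π x)
  obtain ⟨I, hI⟩ := MinorFam.exists_minor π v hv (hb i) x hi
  refine ⟨fun j => ((MinorFam.mat π v (b j)).submatrix id (I.1.orderEmbOfFin I.2)).det, fun i j => ?_, ?_⟩
  · have hres : ∀ (k : S) (h : (V i).1 ⊓ (V j).1 ≤ (V k).1),
        resO S' (π.preimage_mono h) ((MinorFam.mat π v (b k)).submatrix id (I.1.orderEmbOfFin I.2)).det =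
          ((MinorFam.mat π v (fun m => res E h (b k m))).submatrix id (I.1.orderEmbOfFin I.2)).det := by
      intro k h
      rw [RingHom.map_det, ← MinorFam.mat_res]
      rfl
    have h3 := MinorFam.mat_mul π v (fun m => res E (inf_le_left : (V i).1 ⊓ (V j).1 ≤ _) (b i m))
      (fun m => res E (inf_le_right : (V i).1 ⊓ (V j).1 ≤ _) (b j m)) (Matrix.of (a i j)) (ha i j)
    have h4 : ((MinorFam.mat π v (fun m => res E (inf_le_left : (V i).1 ⊓ (V j).1 ≤ _) (b i m))).submatrix id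
        (I.1.orderEmbOfFin I.2)).det = (π.app ((V i).1 ⊓ (V j).1)).hom (Matrix.of (a i j)).det *
          ((MinorFam.mat π v (fun m => res E (inf_le_right : (V i).1 ⊓ (V j).1 ≤ _) (b j m))).submatrix id
            (I.1.orderEmbOfFin I.2)).det := by
      rw [h3, RingHom.map_det, ← Matrix.det_mul]
      rfl
    have h5 : (π.app ((V i).1 ⊓ (V j).1)).hom (Matrix.of (a i j)).det * (π.app ((V i).1 ⊓ (V j).1)).hom (t' i j) = 1 := by
      rw [← map_mul, htt i j, map_one]
    change resO S' (π.preimage_mono (inf_le_left : (V i).1 ⊓ (V j).1 ≤ _)) _ * (π.app ((V i).1 ⊓ (V j).1)).hom (t' i j) =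
      resO S' (π.preimage_mono (inf_le_right : (V i).1 ⊓ (V j).1 ≤ _)) _
    rw [hres i inf_le_left, hres j inf_le_right, h4, mul_right_comm, h5, one_mul]
  · exact mem_locus.2 ⟨i, hI⟩

end K450.DetGG
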