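import Groth.Agent.S0017
import Groth.Agent.S1524
import Groth.Agent.CohqB.DevMaster
import Groth.Agent.CohqB.DevSimple
import Groth.Agent.CycB.ClosSheaf
import Groth.Agent.Fga.MultForm
import Groth.Agent.Fga.HodgePush
import Groth.Agent.Sga67.PushTwist
import Groth.Agent.PerfB.FlatPull
import Groth.Agent.FormalB.PullCoh
import Groth.Agent.CurvesC.UnitCoh

/-!
# Euler characteristic of the pullback along a finite flat morphism which is a torsor

`f : X ⟶ Y` a finite flat surjective morphism of proper `k`-schemes such that the first projection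
`p : X ×_Y X ⟶ X` has `p_* O ≅ O_X^m`. Then `χ(X, f^* F) = m χ(Y, F)` for all coherent `F`.
-/

set_option autoImplicit false
universe u
open CategoryTheory CategoryTheory.Limits AlgebraicGeometry Opposite TopologicalSpace

namespace K450.EulerPull

open Groth.Agent Groth.Agent.Fdesc.LocGen

variable {X Y W : Scheme.{u}}

theorem support_push_subset (g : W ⟶ X) (G : W.Modules) :
    CohB1.support ((Coh.push g).obj G) ⊆ closure (Set.range g) := by
  intro x hx
  by_contra h
  apply hx
  refine subsingleton_of_forall_eq 0 fun m => ?_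
  let C : X.Opens := ⟨(closure (Set.range g))ᶜ, isClosed_closure.isOpen_compl⟩
  obtain ⟨V, hxV, hVU, t, rfl⟩ := VarietyB.ExactLoc.exists_germ_le ((Coh.push g).obj G) (U := C) h m
  have hbot : g ⁻¹ᵁ V = ⊥ := by
    rw [eq_bot_iff]
    intro w hw
    exact absurd (subset_closure (Set.mem_range_self w)) (hVU hw)
  have h1 : ∀ a b : Γ(G, g ⁻¹ᵁ V), a = b := fun a b =>
    res_ext G (ι := PEmpty.{1}) (fun i => i.elim) (fun i => i.elim) (by rw [hbot]; exact bot_le) fun i => i.elim
  have h2 : t = 0 := h1 t 0
  rw [h2, map_zero]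

theorem closure_range_eq (g : W ⟶ X) [IsIntegral W] : closure (Set.range g) = closure {g (genericPoint W)} := by
  have h := (genericPoint_spec W).image g.continuous
  have h1 : closure {g (genericPoint W)} = closure (g '' Set.univ) := h
  rw [h1, Set.image_univ]

theorem mem_support_push (g : W ⟶ X) [IsIntegral W] :
    g (genericPoint W) ∈ CohB1.support ((Coh.push g).obj (Coh.structureModule W)) := by
  intro hsub
  have h1 : ((Coh.push g).obj (Coh.structureModule W)).presheaf.germ ⊤ (g (genericPoint W)) (Opens.mem_top _)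
      (show Γ((Coh.push g).obj (Coh.structureModule W), ⊤) from one ⊤) = 0 := Subsingleton.elim _ _
  obtain ⟨V, hVU, hxV, hV⟩ := VarietyB.ExactLoc.exists_res_eq_zero ((Coh.push g).obj (Coh.structureModule W))
    (Opens.mem_top _) _ h1
  have h2 : one (g ⁻¹ᵁ V) = 0 :=
    (map_one (ores (le_top : g ⁻¹ᵁ V ≤ ⊤))).symm.trans hV
  have : Nonempty (g ⁻¹ᵁ V : W.Opens) := ⟨⟨genericPoint W, hxV⟩⟩
  exact one_ne_zero (α := Γ(W, g ⁻¹ᵁ V)) h2

section

variable (k : Type u) [Field k] [X.Over (Spec (CommRingCat.of k))] [Y.Over (Spec (CommRingCat.of k))]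

theorem isNoetherian (k : Type u) [Field k] (X : Scheme.{u}) [X.Over (Spec (CommRingCat.of k))]
    [IsProper (X ↘ (Spec (CommRingCat.of k)))] : IsNoetherian X := by
  have : IsLocallyNoetherian X := LocallyOfFiniteType.isLocallyNoetherian (X ↘ (Spec (CommRingCat.of k)))
  have : CompactSpace X := (quasiCompact_iff_compactSpace (X ↘ (Spec (CommRingCat.of k)))).mp inferInstance
  exact {}

theorem isAdd_euler [IsProper (X ↘ (Spec (CommRingCat.of k)))] :
    Fga.ChiBasic.IsAdd (Curv2.euler k X) := fun S hS h1 h2 h3 => S1524.result k X S hS h1 h2 h3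

/-- An additive function which vanishes on one coherent module with support `closure {y}` for every
point `y` vanishes. -/
theorem eq_zero_of_isAdd [IsNoetherian X] (φ : X.Modules → ℤ) (hφ : Fga.ChiBasic.IsAdd φ)
    (h : ∀ y : X, ∃ G : X.Modules, Coh.IsCoh G ∧ CohB1.support G ⊆ closure {y} ∧ y ∈ CohB1.support G ∧
      φ G = 0) (F : X.Modules) (hF : Coh.IsCoh F) : φ F = 0 := by
  refine CohqB.DevMaster.devissage X (fun M => φ M = 0) (fun M hM => Fga.ChiBasic.chi_isZero hφ hM) ?_ ?_ F hF
  · intro S hS h1 h2 h3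
    have := hφ S hS h1 h2 h3
    refine ⟨fun a b => ?_, fun a b => ?_, fun a b => ?_⟩
    · rw [a, b] at this; omega
    · rw [this, a, b]; omega
    · rw [a, b] at this; omega
  · intro Z i _ _ ih
    have hcl := CohqB.DevGeom.closure_image_genericPoint i
    have hs : IsSimpleModule (X.presheaf.stalk (i (genericPoint Z)))
        (((Coh.push i).obj (Coh.structureModule Z)).presheaf.stalk (i (genericPoint Z))) := by
      have : Nonempty ((⊤ : Z.Opens) : Scheme.{u}) := ⟨⟨genericPoint Z, trivial⟩⟩
      exact CohqB.DevSimple.isSimpleModule_stalk_push i _ ⊤ ⟨Scheme.Modules.restrictUnitIso _⟩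
    have hcoh : Coh.IsCoh ((Coh.push i).obj (Coh.structureModule Z)) := CycB.ClosSheaf.isCoh_push_structureModule i
    have hsupp : CohB1.support ((Coh.push i).obj (Coh.structureModule Z)) ⊆ Set.range i :=
      CohqB.DevSimple.support_push_subset_range i _
    refine ⟨_, hcoh, hsupp, hs, ?_⟩
    obtain ⟨G, hG, hGs, hGy, hG0⟩ := h (i (genericPoint Z))
    have key := Fga.MultForm.length_formula' φ hφ (i (genericPoint Z)) (fun M hM hMs hMy => ih M hM (by rwa [← hcl])
      (fun he => hMy (by rw [he]; exact ⟨_, rfl⟩))) _ hcoh (by rw [hcl]; exact hsupp) hs G hG hGs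
    rw [hG0] at key
    have hlen := Fga.MultForm.len_pos hGy
    rcases mul_eq_zero.mp key.2.symm with h0 | h0
    · exfalso
      rw [Int.natCast_eq_zero, ENat.toNat_eq_zero] at h0
      rcases h0 with h0 | h0
      · exact hlen h0
      · exact key.1 h0
    · exact h0

end

end K450.EulerPull
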