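import Groth.Agent.PicF.K248.BC0
import Groth.Agent.Sga67.PushTwistA
import Groth.Agent.RepF.K654.MonoLF
import Groth.Agent.Cohder.RpushSum

/-!
# Restriction of sections to a cover of a closed subscheme, on fibres

`phi j f L : f_* L ⟶ f_* j_* j^* L` for `j : T ⟶ X`, `f : X ⟶ S`.

* `mono_pull`: for a point `s : P ⟶ S` with base change `X_P` and `T_P`: if the degree zero base change map of `L` at
  `s` is a monomorphism and `j_P` is injective on sections of `L_P`, then `s^* phi` is a monomorphism.
* `exists_rho`: functoriality in `j`.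
-/

set_option autoImplicit false
universe u

open CategoryTheory CategoryTheory.Limits AlgebraicGeometry Opposite TopologicalSpace
open Groth.Agent.Fdesc.LocGen K248.BC0

namespace K450.FibMono

/-- Two morphisms out of a pullback agree if they agree on pulled back sections. -/
theorem hom_ext_pull {X Y : Scheme.{u}} (f : X ⟶ Y) {M : Y.Modules} {N : X.Modules}
    {α β : (Scheme.Modules.pullback f).obj M ⟶ N}
    (h : ∀ (U : Y.Opens) (m : Γ(M, U)), α.app (f ⁻¹ᵁ U) (pullSec f m) = β.app (f ⁻¹ᵁ U) (pullSec f m)) : α = β := by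
  apply ((Scheme.Modules.pullbackPushforwardAdjunction f).homEquiv M N).injective
  refine Scheme.Modules.hom_ext _ _ fun U => ?_
  ext m
  rw [homEquiv_app, homEquiv_app]
  exact h U m

theorem pullbackCongr_pullSec {X Y : Scheme.{u}} {f g : X ⟶ Y} (h : f = g) (M : Y.Modules) {U : Y.Opens} (m : Γ(M, U)) :
    ((Scheme.Modules.pullbackCongr h).hom.app M).app (f ⁻¹ᵁ U) (pullSec f m : Γ((Scheme.Modules.pullback f).obj M, _)) =
      res _ (by rw [h]) (pullSec g m) := by
  subst h
  simp [Scheme.Modules.pullbackCongr]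

variable {T X S : Scheme.{u}} (j : T ⟶ X) (f : X ⟶ S) (L : X.Modules)

/-- Restriction of sections of `L` along `j`, over `S`. -/
noncomputable def phi : (Scheme.Modules.pushforward f).obj L ⟶
    (Scheme.Modules.pushforward f).obj ((Scheme.Modules.pushforward j).obj ((Scheme.Modules.pullback j).obj L)) :=
  (Scheme.Modules.pushforward f).map ((Scheme.Modules.pullbackPushforwardAdjunction j).unit.app L)

theorem phi_app (V : S.Opens) (e : Γ(L, f ⁻¹ᵁ V)) :
    (phi j f L).app V (toPush f L V e) = toPush f _ V (toPush j _ _ (pullSec j e)) := rfl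

section Square

variable {TP XP P : Scheme.{u}} (s : P ⟶ S) (fP : XP ⟶ P) (sX : XP ⟶ X) (w : sX ≫ f = fP ≫ s)
  (jP : TP ⟶ XP) (sT : TP ⟶ T) (w' : sT ≫ j = jP ≫ sX)

/-- The comparison of the two iterated pullbacks. -/
noncomputable def twoPull : (Scheme.Modules.pullback sT).obj ((Scheme.Modules.pullback j).obj L) ≅
    (Scheme.Modules.pullback jP).obj ((Scheme.Modules.pullback sX).obj L) :=
  (Scheme.Modules.pullbackComp sT j).app L ≪≫ (Scheme.Modules.pullbackCongr w').app L ≪≫
    ((Scheme.Modules.pullbackComp jP sX).app L).symm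

theorem twoPull_app {U : X.Opens} (m : Γ(L, U)) :
    (twoPull j L sX jP sT w').hom.app (sT ⁻¹ᵁ (j ⁻¹ᵁ U)) (pullSec sT (pullSec j m)) =
      res _ (preim_eq j sX jP sT w' U).ge (pullSec jP (pullSec sX m)) := by
  change ((Scheme.Modules.pullbackComp jP sX).inv.app L).app _
    (((Scheme.Modules.pullbackCongr w').hom.app L).app _
      (((Scheme.Modules.pullbackComp sT j).hom.app L).app _ (pullSec sT (pullSec j m)))) = _
  rw [pullSec_comp']
  refine (congrArg _ (pullbackCongr_pullSec w' L m)).trans ?_
  refine (app_res ((Scheme.Modules.pullbackComp jP sX).inv.app L) _ _).trans ?_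
  rw [pullSec_comp]
  rfl

/-- The comparison map for the target of `phi`. -/
noncomputable def psi : (Scheme.Modules.pullback s).obj ((Scheme.Modules.pushforward f).obj
    ((Scheme.Modules.pushforward j).obj ((Scheme.Modules.pullback j).obj L))) ⟶
    (Scheme.Modules.pushforward fP).obj ((Scheme.Modules.pushforward jP).obj
      ((Scheme.Modules.pullback jP).obj ((Scheme.Modules.pullback sX).obj L))) :=
  CohBC.bc0 f s fP sX w _ ≫ (Scheme.Modules.pushforward fP).map (CohBC.bc0 j sX jP sT w' _) ≫
    (Scheme.Modules.pushforward fP).map ((Scheme.Modules.pushforward jP).map (twoPull j L sX jP sT w').hom)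

theorem pull_phi_psi : (Scheme.Modules.pullback s).map (phi j f L) ≫ psi j f L s fP sX w jP sT w' =
    CohBC.bc0 f s fP sX w L ≫ (Scheme.Modules.pushforward fP).map
      ((Scheme.Modules.pullbackPushforwardAdjunction jP).unit.app ((Scheme.Modules.pullback sX).obj L)) := by
  refine hom_ext_pull s fun V m => ?_
  obtain ⟨e, rfl⟩ := (toPush f L V).surjective m
  change ((Scheme.Modules.pushforward fP).map ((Scheme.Modules.pushforward jP).map (twoPull j L sX jP sT w').hom)).app _
    (((Scheme.Modules.pushforward fP).map (CohBC.bc0 j sX jP sT w' _)).app _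
      ((CohBC.bc0 f s fP sX w _).app _ (((Scheme.Modules.pullback s).map (phi j f L)).app _
        (pullSec s (toPush f L V e))))) =
    ((Scheme.Modules.pushforward fP).map
      ((Scheme.Modules.pullbackPushforwardAdjunction jP).unit.app ((Scheme.Modules.pullback sX).obj L))).app _
      ((CohBC.bc0 f s fP sX w L).app _ (pullSec s (toPush f L V e)))
  rw [pullback_map_pullSec, phi_app, bc0_app_pullSec, bc0_app_pullSec]
  change (twoPull j L sX jP sT w').hom.app _ ((CohBC.bc0 j sX jP sT w' _).app _
    (res _ (preim_eq f s fP sX w V).le (pullSec sX (toPush j _ _ (pullSec j e))))) =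
    pullSec jP (res _ (preim_eq f s fP sX w V).le (pullSec sX e))
  have h1 := app_res (CohBC.bc0 j sX jP sT w' ((Scheme.Modules.pullback j).obj L)) (preim_eq f s fP sX w V).le
    (pullSec sX (toPush j _ _ (pullSec j e)))
  rw [bc0_app_pullSec] at h1
  refine (congrArg ((twoPull j L sX jP sT w').hom.app _) h1).trans ?_
  have h2 := app_res (twoPull j L sX jP sT w').hom (V := jP ⁻¹ᵁ (fP ⁻¹ᵁ (s ⁻¹ᵁ V))) (U := sT ⁻¹ᵁ (j ⁻¹ᵁ (f ⁻¹ᵁ V)))
    (by rw [← preim_eq j sX jP sT w', preim_eq f s fP sX w V]) (pullSec sT (pullSec j e))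
  rw [twoPull_app, res_res] at h2
  rw [← res_pullSec]
  refine Eq.trans ?_ h2
  refine congrArg ((twoPull j L sX jP sT w').hom.app _) ?_
  rw [res_toPush]
  exact res_res _ _ _ _

/-- Over a scheme with one point, injectivity on global sections suffices. -/
theorem mono_of_top {Y : Scheme.{u}} [Subsingleton Y] {M N : Y.Modules} (g : M ⟶ N)
    (h : ∀ m : Γ(M, ⊤), g.app ⊤ m = 0 → m = 0) : Mono g := by
  refine Groth.Agent.Cohder.RpushSum.mono_of_locally g fun U m hm x hx => ?_
  have hU : U = ⊤ := by
    ext y
    simp only [Opens.coe_top, Set.mem_univ, iff_true]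
    rw [Subsingleton.elim y x]
    exact hx
  subst hU
  refine ⟨⊤, le_rfl, hx, ?_⟩
  rw [h m hm, map_zero]

include w' in
/-- Injectivity of `s^* phi` from injectivity of restriction on the fibre. -/
theorem mono_pull [Subsingleton P] [Mono (CohBC.bc0 f s fP sX w L)]
    (h : ∀ x : Γ((Scheme.Modules.pullback sX).obj L, ⊤), pullSec jP x = 0 → x = 0) :
    Mono ((Scheme.Modules.pullback s).map (phi j f L)) := by
  have h1 : Mono ((Scheme.Modules.pushforward fP).map
      ((Scheme.Modules.pullbackPushforwardAdjunction jP).unit.app ((Scheme.Modules.pullback sX).obj L))) :=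
    mono_of_top _ fun m hm => h m hm
  have h2 : Mono ((Scheme.Modules.pullback s).map (phi j f L) ≫ psi j f L s fP sX w jP sT w') := by
    rw [pull_phi_psi]
    infer_instance
  exact mono_of_mono _ (psi j f L s fP sX w jP sT w')

end Square

section Rho

variable {T' : Scheme.{u}} (j' : T' ⟶ X) (c : T ⟶ T') (hc : c ≫ j' = j)

include hc in
/-- Functoriality of `phi` in `j`. -/
theorem exists_rho : ∃ ρ, phi j f L = phi j' f L ≫ ρ := by
  subst hc
  refine ⟨(Scheme.Modules.pushforward f).map ((Scheme.Modules.pushforward j').map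
    ((Scheme.Modules.pullbackPushforwardAdjunction c).unit.app _) ≫
      (Scheme.Modules.pushforward (c ≫ j')).map ((Scheme.Modules.pullbackComp c j').hom.app L)), ?_⟩
  rw [phi, phi, ← Functor.map_comp]
  congr 1
  refine Scheme.Modules.hom_ext _ _ fun U => ?_
  ext m
  exact (pullSec_comp' c j' m).symm

end Rho

end K450.FibMono
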