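import Groth.Agent.Dual3.K477.RelUniv
import Groth.Agent.Dual3.K477.RelDualSm
import Groth.Agent.FMK.K884.Flt
import Groth.Agent.FMK.K578.DualPush
import Groth.Agent.RatRes.K97.Single
import Groth.Agent.PerfC.RHomShift
import Groth.Agent.S3646

/-!
# Duality for a smooth proper morphism over an arbitrary base

`nonempty_dual`: `f : X → S` smooth proper of relative dimension `g`, `ω = Ω^g_f`, `F` finite locally free with
`R^j f_* F = 0` for `j ≠ g` and `V = R^g f_* F` finite locally free; then `f_* (ω ⊗ F^∨) ≅ V^∨`, and the higher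
direct images of `ω ⊗ F^∨` vanish.
-/

set_option autoImplicit false

universe u

open CategoryTheory CategoryTheory.Limits AlgebraicGeometry MonoidalCategory

attribute [local instance] HasDerivedCategory.standard

open scoped Groth.Agent.Dcoh.MonCat Groth.Agent.Dcoh.ModD

namespace K450.KeyDual

open Groth.Agent Groth.Agent.PerfC.DTens Groth.Agent.PerfC.RHomD Groth.Agent.K477.SheafDual
  Groth.Agent.K477.RelUniv Groth.Agent.K477.NormSch Groth.Agent.Ega1.ADualUniv Groth.Agent.Dual.H307.MonSquare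

variable {X S : Scheme.{u}}

/-- `RHom(E, -) ≅ - ⊗ E'`. -/
theorem nonempty_RH (E E' : DCoh.D X) [ExactPairing E E'] : Nonempty (RH E ≅ tensorRight E') := by
  obtain ⟨i⟩ := Dcoh.PerfDual.nonempty_flipIso E
  exact ⟨((rhAdj E).ofNatIsoLeft i).rightAdjointUniq (tensorRightAdjunction E E')⟩

section

attribute [local instance] Groth.Agent.PerfB.BCSch.hasLpull Groth.Agent.Dcoh.DerSch.hasRpush

variable (f : X ⟶ S) [IsProper f] [Flat f] [LocallyOfFinitePresentation f]

theorem exists_isIso_dualMapD {K : DCoh.D X} (hK : Dual3.IsRelDualizing f K) :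
    ∃ τ : (DCoh.Rpush f).obj K ⟶ OO S, ∀ N : DCoh.D X, DCoh.IsQCohD N → IsIso (dualMapD f N τ) := by
  obtain ⟨τ, -, hτ⟩ := exists_isUniv f hK (Iso.refl (OO S))
  refine ⟨τ, fun N hN => ?_⟩
  refine isIso_dualMapD_basis f (fun V => IsAffineOpen V) (fun x V hx => ?_) hN τ fun V hV => ?_
  · obtain ⟨W, hW, hxW, hWV⟩ := TopologicalSpace.Opens.isBasis_iff_nbhd.1 S.isBasis_affineOpens hx
    exact ⟨W, hW, hxW, hWV⟩
  · have : IsAffine V.toScheme := hV
    exact ⟨inferInstance, betaRes f (isPullback_morphismRestrict f V).flip,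
      (isUniv_res f (isPullback_morphismRestrict f V).flip τ
        (hτ V.ι (f ⁻¹ᵁ V).ι (f ∣_ V) (isPullback_morphismRestrict f V).flip)).bij⟩

/-- Duality: `Rf_* (M ⊗ E') ≅ W'` if `M ≅ K` is relatively dualizing, `E'` dual to `E`, `W'` dual to `Rf_* E`. -/
theorem nonempty_dual_D {K : DCoh.D X} (hK : Dual3.IsRelDualizing f K) {E E' : DCoh.D X} (hE : DCoh.IsQCohD E)
    [ExactPairing E E'] {W W' : DCoh.D S} [ExactPairing W W'] (e : (DCoh.Rpush f).obj E ≅ W) :
    Nonempty ((DCoh.Rpush f).obj (K ⊗ E') ≅ W') := by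
  obtain ⟨τ, hτ⟩ := exists_isIso_dualMapD f hK
  have := hτ E hE
  obtain ⟨i1⟩ := nonempty_RH E E'
  obtain ⟨i2⟩ := nonempty_RH W W'
  exact ⟨(DCoh.Rpush f).mapIso (i1.app K).symm ≪≫ asIso (dualMapD f E τ) ≪≫ (rhIso e (OO S)).symm ≪≫
    i2.app (OO S) ≪≫ whiskerRightIso (Groth.Agent.Dcoh.DualX.unitIso S) W' ≪≫ λ_ W'⟩

end

section

variable (f : X ⟶ S) [IsProper f] (g : ℕ) [SmoothOfRelativeDimension g f]

attribute [local instance] Groth.Agent.PerfB.BCSch.hasLpull Groth.Agent.Dcoh.DerSch.hasRpush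

/-- The relative dualizing complex of a smooth proper morphism. -/
theorem exists_isRelDualizing {ω : X.Modules} (hω : ExtPow.IsExtPow g (Omega.sheaf f) ω) :
    ∃ (_ : Flat f) (_ : LocallyOfFinitePresentation f) (K : DCoh.D X) (_ : Dual3.IsRelDualizing f K),
      Nonempty (K ≅ (DCoh.inD X ω)⟦(g : ℤ)⟧) := by
  have hsm : Smooth f := SmoothOfRelativeDimension.smooth g f
  have h1 : Flat f := inferInstance
  have h2 : LocallyOfFinitePresentation f := inferInstance
  obtain ⟨K, hK⟩ := S3646.result X S f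
  exact ⟨h1, h2, K, hK, Groth.Agent.K477.RelDualSm.nonempty_iso g f K hK ω hω⟩

/-- The derived direct image of an acyclic module. -/
theorem nonempty_rpush_acyc {f : X ⟶ S} {N : X.Modules} (h0 : ∀ i, 0 < i → IsZero ((Coh.Rpush f i).obj N)) :
    Nonempty ((DCoh.Rpush f).obj (DCoh.inD X N) ≅ DCoh.inD S ((Coh.push f).obj N)) := by
  have := Groth.Agent.Dcoh.DerSch.hasInjectiveResolutions X
  obtain ⟨e⟩ := K97.Single.nonempty_iso_single ((DCoh.Rpush f).obj (DCoh.inD X N)) 0 (fun i hi => by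
    rcases lt_or_gt_of_ne hi with h | h
    · exact PerfC.RpushSingle.isZero_of_neg f N i h
    · obtain ⟨n, rfl⟩ := Int.eq_ofNat_of_zero_le h.le
      exact (h0 n (by omega)).of_iso (PerfC.RpushSingle.iso f n N))
  exact ⟨e ≪≫ (DerivedCategory.singleFunctor S.Modules 0).mapIso
    (PerfC.RpushSingle.iso f 0 N ≪≫ K97.Single.rpushZero f N)⟩

theorem isQCohD_inD_of_isFinLocFree {N : X.Modules} (hN : FlatMod.IsFinLocFree N) :
    DCoh.IsQCohD (DCoh.inD X N) :=
  PerfA.QCohD.isQCohD_inD N (Groth.Agent.PerfA.QCohEpi.isQCoh_of_isFinLocFree hN)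

/-- **Duality for a smooth proper morphism over an arbitrary base**, for a module without higher direct images. -/
theorem nonempty_dual {ω : X.Modules} (hω : ExtPow.IsExtPow g (Omega.sheaf f) ω) (hωf : FlatMod.IsFinLocFree ω)
    {N N' : X.Modules}
    (hN : FlatMod.IsFinLocFree N) (pN : ExactPairing N N')
    (h0 : ∀ i, 0 < i → IsZero ((Coh.Rpush f i).obj N)) {W W' : S.Modules} (hW : FlatMod.IsFinLocFree W)
    (pW : ExactPairing W W') (eW : (Coh.push f).obj N ≅ W) :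
    Nonempty ((Coh.Rpush f g).obj (CohB1.tensorMod ω N') ≅ W') ∧
      ∀ j, j ≠ g → IsZero ((Coh.Rpush f j).obj (CohB1.tensorMod ω N')) := by
  have := Groth.Agent.Dcoh.DerSch.hasInjectiveResolutions X
  obtain ⟨h1, h2, K, hK, ⟨eK⟩⟩ := exists_isRelDualizing f g hω
  obtain ⟨dN⟩ := K884.Flt.isDual_inD hN N'
  obtain ⟨dW⟩ := K884.Flt.isDual_inD hW W'
  obtain ⟨r⟩ := nonempty_rpush_acyc h0
  obtain ⟨d⟩ := nonempty_dual_D f hK (isQCohD_inD_of_isFinLocFree hN) (E' := DCoh.inD X N') (W' := DCoh.inD S W')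
    (r ≪≫ (DerivedCategory.singleFunctor S.Modules 0).mapIso eW)
  obtain ⟨t⟩ := K578.DualPush.nonempty_shift_tensor (DCoh.inD X ω) (DCoh.inD X N') (g : ℤ)
  obtain ⟨t2⟩ := K884.Flt.nonempty_tensor_inD ω N' (Groth.Agent.Dcoh.Spread.isFlat_of_isFinLocFree hωf)
  let e1 : K ⊗ DCoh.inD X N' ≅ (DerivedCategory.singleFunctor X.Modules (-(g : ℤ))).obj (CohB1.tensorMod ω N') :=
    whiskerRightIso eK _ ≪≫ t ≪≫ (shiftFunctor (DCoh.D X) (g : ℤ)).mapIso t2 ≪≫ K97.Single.shiftIso g _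
  have h3 := fun p => K97.Single.rpush_iso f (K ⊗ DCoh.inD X N') (CohB1.tensorMod ω N') g e1 p
  constructor
  · obtain ⟨e3⟩ := h3 g
    exact ⟨e3.symm ≪≫ (DerivedCategory.homologyFunctor S.Modules _).mapIso d ≪≫
      eqToIso (congrArg (DCoh.HD (DCoh.inD S W')) (by simp)) ≪≫ K97.Single.homologySingleIso 0 W'⟩
  · intro j hj
    obtain ⟨e3⟩ := h3 j
    exact (K97.Single.isZero_of_single (DCoh.inD S W') 0 W' (Iso.refl _) ((j : ℤ) - g) (by omega)).of_iso
      (e3.symm ≪≫ (DerivedCategory.homologyFunctor S.Modules _).mapIso d)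

end

end K450.KeyDual
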