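import Groth.Agent.AbSch.K451.TopV

/-!
# Shears of a product of abelian schemes and the Mumford class

For `u : A ⟶ B`, `sh u : (x, y) ↦ (x, y u(x))`.  With `zet` the class `(lam × 1)^*` of the Mumford class of `c`:

* `zet_mul_pos`: `zet * snd^* c = (sh lam)^* (fst^* (lam^* c)⁻¹ * snd^* c)`;
* `zet_mul_neg`: `zet * snd^* c⁻¹ = (sh lam⁻¹)^* (fst^* (lam^* c) * snd^* c⁻¹)` for symmetric rigidified `c`.
-/

set_option autoImplicit false
universe u
open CategoryTheory CategoryTheory.Limits AlgebraicGeometry MonoidalCategory CartesianMonoidalCategory MonObj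

namespace K450.KeyShear

open Groth.Agent Groth.Agent.Grpsch.PicGrp K449.Cube K732.Prim K732.BC K732.Dual K732.PicZero K451.TopDir K451.TopPair
  K732.Bidual K451.TopSide K451.TopV
open K528.MumZero (mumCl)

variable {S : Scheme.{u}} {A B : Over S} [GrpObj B]

/-- The shear `(x, y) ↦ (x, y u(x))`. -/
noncomputable def sh (u : A ⟶ B) : A ⊗ B ⟶ A ⊗ B := lift (fst A B) (snd A B * (fst A B ≫ u))

theorem sh_fst (u : A ⟶ B) : sh u ≫ fst A B = fst A B := lift_fst _ _

theorem sh_snd (u : A ⟶ B) : sh u ≫ snd A B = snd A B * (fst A B ≫ u) := lift_snd _ _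

theorem sh_comp (u v : A ⟶ B) : sh u ≫ sh v = sh (u * v) := by
  refine CartesianMonoidalCategory.hom_ext _ _ ?_ ?_
  · rw [Category.assoc, sh_fst, sh_fst, sh_fst]
  · rw [Category.assoc, sh_snd, sh_snd, MonObj.comp_mul, sh_snd, ← Category.assoc, sh_fst, MonObj.comp_mul, _root_.mul_assoc]

theorem sh_one : sh (1 : A ⟶ B) = 𝟙 (A ⊗ B) := by
  refine CartesianMonoidalCategory.hom_ext _ _ ?_ ?_
  · rw [sh_fst, Category.id_comp]
  · rw [sh_snd, MonObj.comp_one, _root_.mul_one, Category.id_comp]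

instance isIso_sh (u : A ⟶ B) : IsIso (sh u) :=
  ⟨sh u⁻¹, by rw [sh_comp, mul_inv_cancel, sh_one], by rw [sh_comp, inv_mul_cancel, sh_one]⟩

instance isIso_sh_left (u : A ⟶ B) : IsIso (sh u).left :=
  inferInstanceAs (IsIso ((Over.forget S).map (sh u)))

theorem sh_hom (u : A ⟶ B) : (sh u).left ≫ (A ⊗ B).hom = (A ⊗ B).hom := Over.w (sh u)

/-- The class on the product. -/
theorem zet_eq (lam : A ⟶ B) (c : Pic B.left) :
    zet lam c = pl ((fst A B ≫ lam) * snd A B) c * (pl (fst A B ≫ lam) c)⁻¹ * (pl (snd A B) c)⁻¹ := by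
  have h1 := ev_zet lam c (fst A B) (snd A B)
  rw [← h1, ev_def, CartesianMonoidalCategory.lift_fst_snd]
  exact (pull_id _).symm

theorem zet_mul_pos [IsCommMonObj B] (lam : A ⟶ B) (c : Pic B.left) :
    (show Pic (A ⊗ B).left from zet lam c) * pl (snd A B) c = pl (sh lam) (pl (fst A B) (pl lam c)⁻¹ * pl (snd A B) c) := by
  change zet lam c * _ = _
  rw [zet_eq, inv_mul_cancel_right, map_mul, ← pl_comp, ← pl_comp, sh_fst, sh_snd, map_inv, ← pl_comp,
    _root_.mul_comm (snd A B) (fst A B ≫ lam), _root_.mul_comm (pl (fst A B ≫ lam) c)⁻¹]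

variable [IsCommMonObj B] [IsProper B.hom] [Smooth B.hom] [GeometricallyIntegral B.hom]

omit [IsProper B.hom] [Smooth B.hom] [GeometricallyIntegral B.hom] in
theorem pl_inv {c : Pic B.left} (hs : pl (𝟙 B ^ (-1 : ℤ)) c = c) {W : Over S} (y : W ⟶ B) : pl y⁻¹ c = pl y c := by
  have h3 : y⁻¹ = y ≫ (𝟙 B ^ (-1 : ℤ)) := by
    rw [zpow_neg_one, GrpObj.comp_inv, Category.comp_id]
  rw [h3, pl_comp, hs]

theorem parallelogram {c : Pic B.left} (h : pull (et B) c = 1) (hs : pl (𝟙 B ^ (-1 : ℤ)) c = c) {W : Over S}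
    (x y : W ⟶ B) : pl (x * y) c * pl (y * x⁻¹) c = pl x c ^ 2 * pl y c ^ 2 := by
  have h1 := cube' c x y x⁻¹
  have h2 : x * y * x⁻¹ = y := by rw [_root_.mul_comm x y, _root_.mul_assoc, mul_inv_cancel, _root_.mul_one]
  rw [h2, mul_inv_cancel, pl_one h, pl_inv hs, _root_.mul_one, _root_.mul_one] at h1
  rw [← h1]
  apply Additive.ofMul.injective
  simp only [ofMul_mul, ofMul_pow]
  module

theorem zet_mul_neg {c : Pic B.left} (h : pull (et B) c = 1) (hs : pl (𝟙 B ^ (-1 : ℤ)) c = c) (lam : A ⟶ B) :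
    (show Pic (A ⊗ B).left from zet lam c) * pl (snd A B) c⁻¹ = pl (sh lam⁻¹) (pl (fst A B) (pl lam c) * pl (snd A B) c⁻¹) := by
  have h1 := parallelogram h hs (fst A B ≫ lam) (snd A B)
  have h2 : (fst A B ≫ lam)⁻¹ = fst A B ≫ lam⁻¹ := (GrpObj.comp_inv _ _).symm
  rw [h2] at h1
  change zet lam c * _ = _
  rw [zet_eq, map_mul, ← pl_comp, ← pl_comp, ← pl_comp, sh_fst, sh_snd]
  simp only [map_inv]
  have h' := congrArg Additive.ofMul h1
  apply Additive.ofMul.injective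
  simp only [ofMul_mul, ofMul_inv, ofMul_pow] at h' ⊢
  linear_combination (norm := module) h'

end K450.KeyShear
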