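import Groth.Agent.SDiv.K471.NormAmple
import Groth.Agent.VarietyB.GlobGen

/-!
# Descent of global generation of powers along finite morphisms with a norm

* `exists_fam_finset`: if `2` is invertible, finitely many points which are each in the nonvanishing locus of a family
  of degree one lie in the nonvanishing locus of one family of positive degree.
* `exists_fam_norm`: families with given nonvanishing point from families upstairs.
-/

set_option autoImplicit false
universe u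

open CategoryTheory AlgebraicGeometry TopologicalSpace Opposite

namespace K450.NormGG

open Groth.Agent.Fdesc.LocGen Groth.Agent.Flat2H.FamExt Groth.Agent.Flat2H.FamDict
open Groth.Agent.Divis.AmpleAvoid Groth.Agent.Divis.NormSheaf
open Groth.Agent.Divis.NormAmple

theorem exists_pow_ne {ι : Type*} (F : Finset ι) (K : ι → Type*) [∀ i, Field (K i)] (h2 : ∀ i, (2 : K i) ≠ 0)
    (u : ∀ i, K i) : ∃ z : ℕ, 0 < z ∧ ∀ i ∈ F, u i ^ z ≠ -1 := by
  classical
  let o : ι → ℕ := fun i => if orderOf (u i) = 0 then 1 else orderOf (u i)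
  have ho : ∀ i, 0 < o i := fun i => by
    change 0 < if orderOf (u i) = 0 then 1 else orderOf (u i)
    split_ifs with h
    · exact one_pos
    · exact Nat.pos_of_ne_zero h
  refine ⟨∏ i ∈ F, o i, Finset.prod_pos fun i _ => ho i, fun i hi hu => ?_⟩
  have hz : 0 < ∏ i ∈ F, o i := Finset.prod_pos fun i _ => ho i
  have hd : o i ∣ ∏ i ∈ F, o i := Finset.dvd_prod_of_mem o hi
  by_cases h : orderOf (u i) = 0
  · have h1 : u i ^ ((∏ i ∈ F, o i) * 2) = 1 := by rw [pow_mul, hu]; ring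
    have h3 := orderOf_dvd_of_pow_eq_one h1
    rw [h, zero_dvd_iff] at h3
    omega
  · have h1 : orderOf (u i) ∣ ∏ i ∈ F, o i := by
      have : o i = orderOf (u i) := if_neg h
      rwa [this] at hd
    have h3 : u i ^ ∏ i ∈ F, o i = 1 := orderOf_dvd_iff_pow_eq_one.1 h1
    rw [hu] at h3
    apply h2 i
    have : (2 : K i) = 1 - (-1) := by ring
    rw [this, h3, sub_self]

variable {X : Scheme.{u}} {ι : Type*} {W : ι → X.Opens} {g : ∀ i j, Γ(X, W i ⊓ W j)}

/-- Finitely many points. -/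
theorem exists_fam_finset (hg : ∀ i j, IsUnit (g i j)) (hW : ∀ x : X, ∃ i, x ∈ W i)
    (h2 : ∀ x : X, (2 : X.residueField x) ≠ 0) (F : Finset X)
    (h : ∀ x ∈ F, ∃ b : ∀ j, Γ(X, W j), IsFam W g b ∧ x ∈ locus W b) :
    ∃ (n : ℕ) (b : ∀ j, Γ(X, W j)), IsFam W (fun i j => g i j ^ (n + 1)) b ∧ ∀ x ∈ F, x ∈ locus W b := by
  classical
  induction F using Finset.induction_on with
  | empty => exact ⟨0, fun _ => 0, isFam_zero, fun x hx => absurd hx (Finset.notMem_empty x)⟩
  | insert x F hx ih =>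
    obtain ⟨n, a, ha, haF⟩ := ih fun y hy => h y (Finset.mem_insert_of_mem hy)
    by_cases hxa : x ∈ locus W a
    · refine ⟨n, a, ha, fun y hy => ?_⟩
      rcases Finset.mem_insert.1 hy with rfl | hy
      · exact hxa
      · exact haF y hy
    · obtain ⟨b, hb, hxb⟩ := h x (Finset.mem_insert_self x F)
      choose i hi using hW
      let ev : ∀ (y : X) (c : ∀ j, Γ(X, W j)), X.residueField y := fun y c => X.evaluation (W (i y)) y (hi y) (c (i y))
      have hev : ∀ (y : X) (c : ∀ j, Γ(X, W j)) (g' : ∀ i j, Γ(X, W i ⊓ W j)), (∀ i j, IsUnit (g' i j)) →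
          IsFam W g' c → (y ∈ locus W c ↔ ev y c ≠ 0) := by
        intro y c g' hg' hc
        rw [mem_locus_iff hc hg' (hi y)]
        exact (X.evaluation_ne_zero_iff_mem_basicOpen y (hi y) (c (i y))).symm
      obtain ⟨z, hz, hzF⟩ := exists_pow_ne F (fun y => X.residueField y) h2 (fun y => ev y b ^ (n + 1) / ev y a)
      have hfam1 : IsFam W (fun i j => g i j ^ ((n + 1) * z)) (fun j => a j ^ z) :=
        IsFam.congr (isFam_pow ha z) fun i j => (pow_mul _ _ _).symm
      have hfam2 : IsFam W (fun i j => g i j ^ ((n + 1) * z)) (fun j => b j ^ ((n + 1) * z)) := isFam_pow hb _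
      have hfam := isFam_add hfam1 hfam2
      have hpos : 0 < (n + 1) * z := Nat.mul_pos (Nat.succ_pos n) hz
      obtain ⟨m, hm⟩ : ∃ m, (n + 1) * z = m + 1 := ⟨(n + 1) * z - 1, by omega⟩
      refine ⟨m, fun j => a j ^ z + b j ^ ((n + 1) * z), IsFam.congr hfam fun i j => by rw [hm], fun y hy => ?_⟩
      rw [hev y _ _ (fun i j => (hg i j).pow _) hfam]
      have hevy : ev y (fun j => a j ^ z + b j ^ ((n + 1) * z)) = ev y a ^ z + ev y b ^ ((n + 1) * z) := by
        change X.evaluation (W (i y)) y (hi y) (a (i y) ^ z + b (i y) ^ ((n + 1) * z)) = _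
        rw [map_add, map_pow, map_pow]
      rw [hevy]
      rcases Finset.mem_insert.1 hy with rfl | hy
      · have h3 : ev y a = 0 := by
          by_contra h4
          exact hxa ((hev y a _ (fun i j => (hg i j).pow _) ha).2 h4)
        rw [h3, zero_pow hz.ne', zero_add]
        exact pow_ne_zero _ ((hev y b _ hg hb).1 hxb)
      · have h3 : ev y a ≠ 0 := (hev y a _ (fun i j => (hg i j).pow _) ha).1 (haF y hy)
        intro h4
        apply hzF y hy
        rw [div_pow, ← pow_mul, div_eq_iff (pow_ne_zero _ h3), neg_one_mul]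
        exact eq_neg_of_add_eq_zero_right h4

/-- A common power of invertible modules with sections of various powers. -/
theorem exists_gg_pow {X : Scheme.{u}} [CompactSpace X] {L : X.Modules} (hL : PicF.IsInvertible L)
    (h : ∀ x : X, ∃ (n : ℕ) (t : Coh.structureModule X ⟶ CohB1.tensorPow L (n + 1)), x ∈ CohB1.genLocus _ t) :
    ∃ m : ℕ, 0 < m ∧ Curv2.IsGloballyGenerated (CohB1.tensorPow L m) := by
  choose n t ht using h
  obtain ⟨T, hT⟩ := isCompact_univ.elim_finite_subcover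
    (fun x : X => (CohB1.genLocus (CohB1.tensorPow L (n x + 1)) (t x) : Set X))
    (fun x => (CohB1.genLocus _ (t x)).isOpen) (fun x _ => Set.mem_iUnion.mpr ⟨x, ht x⟩)
  let N : ℕ := ∏ x ∈ T, (n x + 1)
  have hN : 0 < N := Finset.prod_pos fun x _ => Nat.succ_pos _
  obtain ⟨ι, W, g, -, hW⟩ := exists_trivs hL (fun _ ↦ True) (fun U x hx ↦ ⟨U, hx, le_rfl, trivial⟩)
  have key : ∀ y : X, ∃ s : Coh.structureModule X ⟶ CohB1.tensorPow L N, y ∈ CohB1.genLocus _ s := by
    intro y
    obtain ⟨x, hx⟩ := Set.mem_iUnion.mp (hT (Set.mem_univ y))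
    obtain ⟨hxT, hyx⟩ := Set.mem_iUnion.mp hx
    obtain ⟨c, hc⟩ : n x + 1 ∣ N := Finset.dvd_prod_of_mem (fun x => n x + 1) hxT
    have hc0 : 0 < c := by
      rcases Nat.eq_zero_or_pos c with h0 | h0
      · rw [h0, mul_zero] at hc; omega
      · exact h0
    obtain ⟨b, hb, hloc⟩ := (hW.tensorPow (n x + 1)).exists_fam (t x)
    have hb' : IsFam W (fun i j => g i j ^ N) (fun j => b j ^ c) :=
      IsFam.congr (isFam_pow hb c) fun i j => by rw [← pow_mul, hc]
    obtain ⟨s, hs⟩ := (hW.tensorPow N).exists_sec _ hb'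
    refine ⟨s, ?_⟩
    have h3 : locus W (fun j => b j ^ c) = locus W b := locus_pow b hc0
    rw [hs]
    change y ∈ locus W (fun j => b j ^ c)
    rw [h3]
    change y ∈ ⨆ j, X.basicOpen (b j)
    rw [← hloc]
    exact hyx
  choose s hs using key
  exact ⟨N, hN, Groth.Agent.VarietyB.GlobGen.isGloballyGenerated_of_cover (κ := X) s (fun x => ⟨x, hs x⟩)⟩

theorem exists_gg {S' S : Scheme.{u}} (π : S' ⟶ S) [IsFinite π] {δ : ℕ} (N : Nrm.NormOfDegree π δ) [CompactSpace S]
    (h2 : ∀ x : S', (2 : S'.residueField x) ≠ 0) {D : S.Modules} {ι : Type*} {W : ι → S.Opens}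
    {g : ∀ i j, Γ(S, W i ⊓ W j)} (hT : Trivs D W g)
    (h : ∀ x : S', ∃ b : ∀ j, Γ(S', π ⁻¹ᵁ W j), IsFam (fun j => π ⁻¹ᵁ W j)
      (fun i j => (π.app (W i ⊓ W j) (g i j) : Γ(S', π ⁻¹ᵁ W i ⊓ π ⁻¹ᵁ W j))) b ∧ x ∈ locus (fun j => π ⁻¹ᵁ W j) b) :
    ∃ n : ℕ, 0 < n ∧ Curv2.IsGloballyGenerated (CohB1.tensorPow D n) := by
  refine exists_gg_pow hT.isInvertible fun y => ?_
  have hg : ∀ i j, IsUnit (π.app (W i ⊓ W j) (g i j) : Γ(S', π ⁻¹ᵁ W i ⊓ π ⁻¹ᵁ W j)) := fun i j =>
    (hT.isUnit i j).map (π.app (W i ⊓ W j)).hom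
  obtain ⟨n, b, hb, hbF⟩ := exists_fam_finset (W := fun j => π ⁻¹ᵁ W j) hg (fun x => hT.1 (π x)) h2
    (π.finite_preimage_singleton y).toFinset (fun x _ => h x)
  have h1 := K471.NormAmple.isFam_norm N hb
  have h3 := K471.NormAmple.locus_norm N hT.1 (fun i j => (hg i j).pow (n + 1)) hb
  have hpos : 0 < δ * (n + 1) := Nat.mul_pos N.one_le (Nat.succ_pos n)
  obtain ⟨m, hm⟩ : ∃ m, δ * (n + 1) = m + 1 := ⟨δ * (n + 1) - 1, by omega⟩
  have h4 : IsFam W (fun i j => g i j ^ (m + 1)) (fun j => N.norm (W j) (b j)) := IsFam.congr h1 fun i j => by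
    refine (map_pow (N.norm (W i ⊓ W j)) _ (n + 1)).trans ?_
    rw [N.norm_app, ← pow_mul, hm]
  obtain ⟨s, hs⟩ := (hT.tensorPow (m + 1)).exists_sec _ h4
  refine ⟨m, s, ?_⟩
  rw [hs]
  change y ∈ locus W (fun j => N.norm (W j) (b j))
  rw [h3, mem_core]
  intro x hx
  exact hbF x (by rw [Set.Finite.mem_toFinset]; exact hx)

end K450.NormGG
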