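import Groth.Agent.AbSch.K451.DetMat
import Groth.Agent.Krr.H487.LocBasisPull
import Groth.Agent.LabGraph.K221.CauchyBinet
import Groth.Agent.AbSch.K450.NormGG

/-!
# Minors of a locally split monomorphism into a free module
-/

set_option autoImplicit false
universe u

open CategoryTheory CategoryTheory.Limits AlgebraicGeometry Opposite TopologicalSpace
open scoped TensorProduct
open Groth.Agent.Sga67 Groth.Agent.Sga67.Sec Groth.Agent.Sga67.LocBasis Groth.Agent.Dual.H376.GlueGen
open Groth.Agent.Grpsch Groth.Agent.Krr.H487.LocBasisPull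

namespace K450.MinorFam

variable {S S' : Scheme.{u}} (π : S' ⟶ S) {E : S.Modules} {r d : ℕ}
  (v : (Scheme.Modules.pullback π).obj E ⟶ FlatMod.freeMod S' r)

/-- The matrix of `v` in a family of sections. -/
noncomputable def mat {U : S.Opens} (b : Fin d → Sec E U) : Matrix (Fin d) (Fin r) Γ(S', π ⁻¹ᵁ U) :=
  Matrix.of fun k l => toO (appS (freeProj S' r l) (π ⁻¹ᵁ U) (appS v (π ⁻¹ᵁ U) (pbS π E (b k))))

theorem toO_sum {X : Scheme.{u}} {V : X.Opens} {J : Type*} (s : Finset J) (y : J → Sec (Coh.structureModule X) V) :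
    toO (∑ i ∈ s, y i) = ∑ i ∈ s, toO (y i) := by
  let g : Sec (Coh.structureModule X) V →+ Γ(X, V) := AddMonoidHom.mk' toO (fun _ _ => rfl)
  exact map_sum g _ _

theorem mat_res {U V : S.Opens} (h : V ≤ U) (b : Fin d → Sec E U) :
    (mat π v b).map (resO S' (π.preimage_mono h)) = mat π v (fun k => res E h (b k)) := by
  ext k l
  change resO S' (π.preimage_mono h) (toO (appS (freeProj S' r l) (π ⁻¹ᵁ U) (appS v (π ⁻¹ᵁ U) (pbS π E (b k))))) =
    toO (appS (freeProj S' r l) (π ⁻¹ᵁ V) (appS v (π ⁻¹ᵁ V) (pbS π E (res E h (b k)))))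
  rw [← toO_res, ← appS_res, ← appS_res, res_pbS π E h]

theorem mat_mul {U : S.Opens} (b b' : Fin d → Sec E U) (a : Matrix (Fin d) (Fin d) Γ(S, U))
    (h : ∀ k, b k = ∑ l, a k l • b' l) : mat π v b = a.map (π.app U).hom * mat π v b' := by
  ext k l
  rw [Matrix.mul_apply]
  change toO (appS (freeProj S' r l) (π ⁻¹ᵁ U) (appS v (π ⁻¹ᵁ U) (pbS π E (b k)))) = _
  rw [h k, map_sum, map_sum, map_sum, toO_sum]
  refine Finset.sum_congr rfl fun m _ => ?_
  rw [pbS_smul, LinearMap.map_smul, LinearMap.map_smul, toO_smul]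
  rfl

theorem appS_eq_comb {X : Scheme.{u}} {V : X.Opens} (s : Sec (FlatMod.freeMod X r) V) :
    s = comb (freeBasis X r) (le_top : V ≤ ⊤) (fun l => toO (appS (freeProj X r l) V s)) := by
  rw [comb_apply]
  have : s = ∑ i, appS (freeProj X r i ≫ Sigma.ι (fun _ : Fin r => Coh.structureModule X) i) V s := by
    rw [← appS_sum, sum_freeProj_ι]
    rfl
  conv_lhs => rw [this]
  refine Finset.sum_congr rfl fun i _ => ?_
  rw [freeBasis, ← appS_res, res_one, ← LinearMap.map_smul, toO_smul_one, appS_comp]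

/-- Some maximal minor does not vanish at `x`. -/
theorem exists_minor [Mono v] (hv : FlatMod.IsFinLocFree (cokernel v)) {U : S.Opens} {b : Fin d → Sec E U}
    (hb : IsLocBasis b) (x : S') (hx : x ∈ π ⁻¹ᵁ U) :
    ∃ I : {s : Finset (Fin r) // s.card = d},
      x ∈ S'.basicOpen ((mat π v b).submatrix id (I.1.orderEmbOfFin I.2)).det := by
  classical
  let C : ShortComplex S'.Modules := ShortComplex.mk v (cokernel.π v) (cokernel.condition v)
  have hC : C.ShortExact := { exact := ShortComplex.exact_cokernel v }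
  have := hC.epi_g
  obtain ⟨V, n, hxV, c, hc⟩ := (isFinLocFree_iff _).1 hv x
  obtain ⟨W, hW, hxW, m, hm⟩ := exists_lifts C.g (fun k => res C.X₃ (inf_le_left : V ⊓ π ⁻¹ᵁ U ≤ V) (c k))
    (x := x) ⟨hxV, hx⟩
  have hWU : W ≤ π ⁻¹ᵁ U := hW.trans inf_le_right
  have hb' := (isLocBasis_pbS π hb).restrict hWU
  have hB := isLocBasis_extension hC hb' ((hc.restrict inf_le_left).restrict hW) m hm
  let β := hB.basis (le_refl W)
  have hβ : ∀ k : Fin d, β (Sum.inl k) = appS v W (res _ hWU (pbS π E (b k))) := fun k =>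
    (hB.basis_apply (le_refl W) (Sum.inl k)).trans (res_self _ _ _)
  let M : Matrix (Fin d) (Fin r) Γ(S', W) := (mat π v b).map (resO S' hWU)
  let R : Matrix (Fin r) (Fin d) Γ(S', W) :=
    Matrix.of fun l k => β.coord (Sum.inl k) (res _ le_top (freeBasis S' r l))
  have hMR : M * R = 1 := by
    ext k k'
    rw [Matrix.mul_apply]
    have h1 : appS v W (res _ hWU (pbS π E (b k))) = ∑ l, M k l • res _ le_top (freeBasis S' r l) := by
      rw [appS_eq_comb (appS v W (res _ hWU (pbS π E (b k)))), comb_apply]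
      refine Finset.sum_congr rfl fun l _ => ?_
      congr 1
      change _ = resO S' hWU (toO (appS (freeProj S' r l) (π ⁻¹ᵁ U) (appS v (π ⁻¹ᵁ U) (pbS π E (b k)))))
      rw [← toO_res, ← appS_res, ← appS_res]
    have h2 : β.coord (Sum.inl k') (β (Sum.inl k)) = ∑ l, M k l * R l k' := by
      rw [hβ, h1, map_sum]
      refine Finset.sum_congr rfl fun l _ => ?_
      rw [map_smul, smul_eq_mul]
      rfl
    rw [← h2, Module.Basis.coord_apply, Module.Basis.repr_self, Matrix.one_apply, Finsupp.single_apply]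
    by_cases hk : k = k'
    · subst hk; simp
    · rw [if_neg hk, if_neg (fun h => hk (Sum.inl_injective h))]
  have h3 := K221.CauchyBinet.cauchyBinet_fin M R
  rw [hMR, Matrix.det_one] at h3
  have h4 := congrArg (S'.evaluation W x hxW) h3
  rw [map_one, map_sum] at h4
  have h5 : ∃ I : {s : Finset (Fin r) // s.card = d},
      S'.evaluation W x hxW (M.submatrix id (I.1.orderEmbOfFin I.2)).det ≠ 0 := by
    by_contra hcon
    push Not at hcon
    rw [Finset.sum_eq_zero (fun I _ => by rw [map_mul, hcon I, zero_mul])] at h4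
    exact one_ne_zero h4
  obtain ⟨I, hI⟩ := h5
  refine ⟨I, ?_⟩
  rw [Scheme.evaluation_ne_zero_iff_mem_basicOpen] at hI
  have h6 : (M.submatrix id (I.1.orderEmbOfFin I.2)).det =
      resO S' hWU ((mat π v b).submatrix id (I.1.orderEmbOfFin I.2)).det := by
    rw [RingHom.map_det]
    rfl
  rw [h6] at hI
  have h7 := Groth.Agent.Flat2H.FamExt.basicOpen_res ((mat π v b).submatrix id (I.1.orderEmbOfFin I.2)).det hWU
  have h8 : x ∈ W ⊓ S'.basicOpen ((mat π v b).submatrix id (I.1.orderEmbOfFin I.2)).det := h7 ▸ hI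
  exact h8.2

end K450.MinorFam
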