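import Groth.Agent.AbSch.K450.FibMono
import Groth.Agent.EGA43.K120.StalkInj
import Groth.Agent.FlatMor.K259.FlatId
import Groth.Agent.Dcoh.FTFP
import Groth.Agent.Desc.FinLocFreeSections

/-!
# The locus where a map of finite locally free modules is injective on fibres is open
-/

set_option autoImplicit false
universe u

open CategoryTheory CategoryTheory.Limits AlgebraicGeometry TopologicalSpace
open Groth.Agent.CycB.StalkExact Groth.Agent.Fdesc.PullbackStalk Groth.Agent.PerfC.FlatExact
open Groth.Agent.Ega1.FTStalkFin K654.StalkPull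
open Groth.Agent.Dcoh.StalkFF Groth.Agent.Dcoh.LocalD
open scoped TensorProduct

namespace K450.OpenMono

variable {X : Scheme.{u}}

theorem mono_fibre_iff {U E : X.Modules} (hU : FlatMod.IsFinLocFree U) (hE : FlatMod.IsFinLocFree E) (ι : U ⟶ E)
    (s : X) : Mono ((Scheme.Modules.pullback (X.fromSpecResidueField s)).map ι) ↔
      Function.Injective (stalkLin ι s) ∧ FlatMod.IsFlatOverAt (𝟙 X) (cokernel ι) s := by
  rw [K259.FlatId.isFlatOverAt_id_iff]
  constructor
  · intro h
    obtain ⟨r, hr⟩ := K654.MonoLF.split_of_fibre (Groth.Agent.Dcoh.FTFP.isFT_of_epi_finLocFree hU (𝟙 U)) hE ι s h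
    refine ⟨Function.LeftInverse.injective (g := r) (fun t => LinearMap.congr_fun hr t), ?_⟩
    obtain ⟨hfree, hfin⟩ := FF_of_isFinLocFree hE s
    have := (K654.MonoLF.free_of_exact_split _ _ (K654.MonoLF.stalk_cokernel_exact ι s)
      (stalkLin_surjective (cokernel.π ι) s) r hr).1
    infer_instance
  · rintro ⟨h1, h2⟩
    rw [mono_iff_stalkLin]
    intro t
    rw [stalkLin_pullback_injective_iff]
    let := stalkAlg (X.fromSpecResidueField s) t
    have hts : X.fromSpecResidueField s t = s := by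
      have : X.fromSpecResidueField s t ∈ Set.range (X.fromSpecResidueField s) := ⟨t, rfl⟩
      rw [Scheme.range_fromSpecResidueField] at this
      exact this
    have key : ∀ s' : X, s' = s → Function.Injective (stalkLin ι s') ∧
        Module.Flat (X.presheaf.stalk s') ((cokernel ι).presheaf.stalk s') := by
      rintro _ rfl
      exact ⟨h1, h2⟩
    obtain ⟨h3, h4⟩ := key _ hts
    have hfp : CohB1.IsFP (cokernel ι) := Groth.Agent.Smoothlim.FPMod.isFP_cokernel ι
      (Groth.Agent.Desc.FinLocFreeSections.isFP_of_isFinLocFree hU)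
      (Groth.Agent.Desc.FinLocFreeSections.isFP_of_isFinLocFree hE)
    have h5 := (K259.FlatId.free_stalk_iff (cokernel ι) hfp (X.fromSpecResidueField s t)).2
      ((K259.FlatId.isFlatOverAt_id_iff _ _).2 h4)
    have : Module.Projective (X.presheaf.stalk (X.fromSpecResidueField s t))
        ((cokernel ι).presheaf.stalk (X.fromSpecResidueField s t)) := Module.Projective.of_free
    exact K654.MonoLF.lTensor_injective (stalkLin ι _) (stalkLin (cokernel.π ι) _)
      h3 (K654.MonoLF.stalk_cokernel_exact ι _) (stalkLin_surjective (cokernel.π ι) _)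

theorem isOpen_mono {U E : X.Modules} (hU : FlatMod.IsFinLocFree U) (hE : FlatMod.IsFinLocFree E) (ι : U ⟶ E) :
    IsOpen {s : X | Mono ((Scheme.Modules.pullback (X.fromSpecResidueField s)).map ι)} := by
  have h1 := Groth.Agent.Desc.FinLocFreeSections.isFP_of_isFinLocFree hU
  have h2 := Groth.Agent.Desc.FinLocFreeSections.isFP_of_isFinLocFree hE
  have h := K120.StalkInj.isOpen_injective_and_flat ι (𝟙 X)
    (Groth.Agent.PerfC.FPSections.isQCoh_of_isFP h1) (Groth.Agent.PerfC.FPSections.isQCoh_of_isFP h2) h1 h2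
  convert h using 1
  ext s
  exact mono_fibre_iff hU hE ι s

/-- A family `φ m : U ⟶ E m` which is injective on the fibre at each point for some `m`, increasingly so, on a
quasi-compact scheme. -/
theorem exists_forall_mono [CompactSpace X] {U : X.Modules} (hU : FlatMod.IsFinLocFree U) (E : ℕ → X.Modules)
    (hE : ∀ m, FlatMod.IsFinLocFree (E m)) (φ : ∀ m, U ⟶ E m) (hφ : ∀ m m', m ≤ m' → ∃ ρ, φ m = φ m' ≫ ρ)
    (h : ∀ s : X, ∃ m, Mono ((Scheme.Modules.pullback (X.fromSpecResidueField s)).map (φ m))) :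
    ∃ m, Mono (φ m) ∧ FlatMod.IsFinLocFree (cokernel (φ m)) := by
  let O : ℕ → Opens X := fun m => ⟨_, isOpen_mono hU (hE m) (φ m)⟩
  have hmono : ∀ m m', m ≤ m' → O m ≤ O m' := by
    intro m m' hm s hs
    obtain ⟨ρ, hρ⟩ := hφ m m' hm
    have hs' : Mono ((Scheme.Modules.pullback (X.fromSpecResidueField s)).map (φ m)) := hs
    rw [hρ, Functor.map_comp] at hs'
    exact mono_of_mono _ ((Scheme.Modules.pullback (X.fromSpecResidueField s)).map ρ)
  obtain ⟨t, ht⟩ := isCompact_univ.elim_finite_subcover (fun m => (O m : Set X)) (fun m => (O m).2)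
    (fun s _ => by
      obtain ⟨m, hm⟩ := h s
      exact Set.mem_iUnion.2 ⟨m, hm⟩)
  refine ⟨t.sup id, K654.MonoLF.main (Groth.Agent.Dcoh.FTFP.isFT_of_epi_finLocFree hU (𝟙 U)) (hE _) _ fun s => ?_⟩
  have hs := ht (Set.mem_univ s)
  simp only [Set.mem_iUnion] at hs
  obtain ⟨m, hm, hs⟩ := hs
  exact hmono m _ (Finset.le_sup (f := id) hm) hs

end K450.OpenMono
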