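import Mathlib.Algebra.MvPolynomial.Degrees
import Mathlib.Algebra.MvPolynomial.CommRing
import Mathlib.Algebra.Group.ForwardDiff
import Mathlib.Algebra.Polynomial.Roots
import Mathlib.Tactic.Ring
import Mathlib.Tactic.FieldSimp
import Mathlib.Tactic.LinearCombination
import Mathlib.Data.Nat.Cast.Field
import Mathlib.Algebra.Order.Field.Rat

/-!
# The polynomial arguments in the Riemann-Roch theorem for abelian varieties
-/

set_option autoImplicit false

open Polynomial

namespace K450.RRPoly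

/-- `t (t + 1) / 2`. -/
noncomputable def α : ℚ[X] := C (1 / 2) * (X * (X + 1))

/-- `t (t - 1) / 2`. -/
noncomputable def β : ℚ[X] := C (1 / 2) * (X * (X - 1))

theorem eval_α (t : ℕ) : α.eval (t : ℚ) = ((t * (t + 1) / 2 : ℕ) : ℚ) := by
  have h : 2 ∣ t * (t + 1) := (Nat.even_mul_succ_self t).two_dvd
  rw [Nat.cast_div h (by norm_num)]
  simp [α]
  ring

theorem eval_β (t : ℕ) (ht : 1 ≤ t) : β.eval (t : ℚ) = ((t * (t - 1) / 2 : ℕ) : ℚ) := by
  have h : 2 ∣ t * (t - 1) := (Nat.even_mul_pred_self t).two_dvd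
  rw [Nat.cast_div h (by norm_num)]
  simp [β, Nat.cast_sub ht]
  ring

theorem natDegree_pow_mul_pow (i j : ℕ) :
    (α ^ i * β ^ j).natDegree = 2 * (i + j) ∧ (α ^ i * β ^ j).leadingCoeff = (1 / 2) ^ (i + j) := by
  have hα : α.natDegree = 2 := by
    unfold α
    compute_degree!
  have hα' : α.leadingCoeff = 1 / 2 := by
    rw [leadingCoeff, hα]
    simp [α, mul_add, ← sq]
  have hβ : β.natDegree = 2 := by
    unfold β
    compute_degree!
  have hβ' : β.leadingCoeff = 1 / 2 := by
    rw [leadingCoeff, hβ]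
    simp [β, mul_sub, ← sq]
  constructor
  · rw [natDegree_mul', natDegree_pow, natDegree_pow, hα, hβ]
    · ring
    · rw [leadingCoeff_pow, leadingCoeff_pow, hα', hβ']
      positivity
  · rw [leadingCoeff_mul, leadingCoeff_pow, leadingCoeff_pow, hα', hβ', pow_add]

/-- The coefficient of `t ^ (2 g)`. -/
theorem coeff_pow_mul_pow (g i j : ℕ) (h : i + j ≤ g) :
    (α ^ i * β ^ j).coeff (2 * g) = if i + j = g then (1 / 2) ^ g else 0 := by
  obtain ⟨h1, h2⟩ := natDegree_pow_mul_pow i j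
  split_ifs with h3
  · subst h3
    rw [← h1, coeff_natDegree, h2]
  · apply coeff_eq_zero_of_natDegree_lt
    omega

theorem eval_eq_pow_mul (g : ℕ) (Q : MvPolynomial (Fin 2) ℚ) (hQ : Q.totalDegree ≤ g)
    (h : ∀ t n : ℕ, 1 ≤ t → MvPolynomial.eval ![((n * (t * (t + 1) / 2) : ℕ) : ℚ), ((n * (t * (t - 1) / 2) : ℕ) : ℚ)] Q =
      (t : ℚ) ^ (2 * g) * MvPolynomial.eval ![(n : ℚ), 0] Q) (n : ℕ) :
    MvPolynomial.eval ![(n : ℚ), 0] Q = (n : ℚ) ^ g * MvPolynomial.eval ![1, 0] Q := by
  -- the constant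
  let K : ℚ := ∑ m ∈ Q.support, Q.coeff m * (if m 0 + m 1 = g then (1 / 2) ^ g else 0)
  have key : ∀ n : ℕ, MvPolynomial.eval ![(n : ℚ), 0] Q = (n : ℚ) ^ g * K := by
    intro n
    let F : ℚ[X] := MvPolynomial.aeval ![C (n : ℚ) * α, C (n : ℚ) * β] Q
    have hF : ∀ x : ℚ, F.eval x = MvPolynomial.eval ![(n : ℚ) * α.eval x, (n : ℚ) * β.eval x] Q := by
      intro x
      change (Polynomial.evalRingHom x) (MvPolynomial.aeval _ Q) = _
      rw [MvPolynomial.aeval_def, MvPolynomial.hom_eval₂, MvPolynomial.eval, MvPolynomial.coe_eval₂Hom]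
      congr 1
      · ext
        · simp
      · funext i
        fin_cases i <;> simp
    have hFX : F = C (MvPolynomial.eval ![(n : ℚ), 0] Q) * X ^ (2 * g) := by
      apply Polynomial.eq_of_infinite_eval_eq
      refine Set.Infinite.mono (s := Set.range fun t : ℕ => ((t + 1 : ℕ) : ℚ)) ?_ ?_
      · rintro _ ⟨t, rfl⟩
        have h1 := h (t + 1) n (by omega)
        change F.eval _ = _
        rw [hF, eval_α, eval_β _ (by omega)]
        simp only [Nat.cast_mul] at h1
        rw [h1]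
        rw [eval_mul, eval_C, eval_pow, eval_X, mul_comm]
      · refine Set.infinite_range_of_injective fun a b hab => ?_
        have : a + 1 = b + 1 := by exact_mod_cast hab
        omega
    have hc : F.coeff (2 * g) = (n : ℚ) ^ g * K := by
      have h2 : F = ∑ m ∈ Q.support, C (Q.coeff m * (n : ℚ) ^ (m 0 + m 1)) * (α ^ m 0 * β ^ m 1) := by
        change MvPolynomial.aeval _ Q = _
        rw [MvPolynomial.aeval_def, MvPolynomial.eval₂_eq']
        refine Finset.sum_congr rfl fun m _ => ?_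
        simp only [Fin.prod_univ_two, Matrix.cons_val_zero, Matrix.cons_val_one, Matrix.cons_val_fin_one,
          mul_pow, map_mul, map_pow, pow_add]
        rw [← Polynomial.C_eq_algebraMap]
        ring
      rw [h2, Polynomial.finsetSum_coeff, Finset.mul_sum]
      refine Finset.sum_congr rfl fun m hm => ?_
      have h3 : m 0 + m 1 ≤ g := by
        refine le_trans ?_ ((MvPolynomial.le_totalDegree hm).trans hQ)
        rw [Finsupp.sum_fintype _ _ (by simp), Fin.sum_univ_two]
      rw [coeff_C_mul, coeff_pow_mul_pow g _ _ h3]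
      split_ifs with h4
      · rw [h4]; ring
      · simp
    rw [hFX, coeff_C_mul, coeff_X_pow_self, mul_one] at hc
    exact hc
  have h1 := key 1
  simp only [Nat.cast_one, one_pow, one_mul] at h1
  rw [key n, h1]

/-- The value at `-1`. -/
theorem eval_neg (g : ℕ) (P : MvPolynomial (Fin 2) ℚ) (c : ℚ)
    (h : ∀ x : ℕ, MvPolynomial.eval ![((x + 1 : ℕ) : ℚ), 1] P = (x : ℚ) ^ g * c) :
    MvPolynomial.eval ![0, 1] P = (-1) ^ g * c := by
  let F : ℚ[X] := MvPolynomial.aeval ![X + 1, 1] P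
  have hF : ∀ x : ℚ, F.eval x = MvPolynomial.eval ![x + 1, 1] P := by
    intro x
    change (Polynomial.evalRingHom x) (MvPolynomial.aeval _ P) = _
    rw [MvPolynomial.aeval_def, MvPolynomial.hom_eval₂, MvPolynomial.eval, MvPolynomial.coe_eval₂Hom]
    congr 1
    · ext
      · simp
    · funext i
      fin_cases i <;> simp
  have h1 : F = C c * X ^ g := by
    apply Polynomial.eq_of_infinite_eval_eq
    refine Set.Infinite.mono (s := Set.range fun t : ℕ => (t : ℚ)) ?_ (Set.infinite_range_of_injective Nat.cast_injective)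
    rintro _ ⟨t, rfl⟩
    change F.eval _ = _
    rw [hF]
    have h2 := h t
    simp only [Nat.cast_add, Nat.cast_one] at h2
    rw [h2, eval_mul, eval_C, eval_pow, eval_X, mul_comm]
  have h2 := hF (-1)
  rw [h1] at h2
  simp only [eval_mul, eval_C, eval_pow, eval_X, neg_add_cancel] at h2
  rw [← h2, mul_comm]

/-- `∑_I (-1)^{|I|} (-|I|)^g = g!`. -/
theorem sum_finset_eq_factorial (g : ℕ) (c : ℤ) :
    (Finset.univ : Finset (Finset (Fin g))).sum (fun I => (-1 : ℤ) ^ I.card * ((I.card : ℤ) ^ g * ((-1) ^ g * c))) =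
      (g.factorial : ℤ) * c := by
  have h1 : (Finset.univ : Finset (Finset (Fin g))).sum (fun I => (-1 : ℤ) ^ I.card * ((I.card : ℤ) ^ g * ((-1) ^ g * c))) =
      ∑ j ∈ Finset.range (g + 1), (g.choose j : ℤ) * ((-1 : ℤ) ^ j * ((j : ℤ) ^ g * ((-1) ^ g * c))) := by
    rw [← Finset.powerset_univ, Finset.sum_powerset_apply_card
      (fun j => (-1 : ℤ) ^ j * ((j : ℤ) ^ g * ((-1) ^ g * c)))]
    simp
  rw [h1]
  have h2 := congrFun (fwdDiff_iter_eq_factorial (R := ℤ) (n := g)) 0
  rw [fwdDiff_iter_eq_sum_shift] at h2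
  simp only [zero_add, nsmul_eq_mul, mul_one, smul_eq_mul, Pi.natCast_apply] at h2
  rw [← h2, Finset.sum_mul]
  refine Finset.sum_congr rfl fun j hj => ?_
  have hj' : j ≤ g := by
    rw [Finset.mem_range] at hj
    omega
  have h3 : (-1 : ℤ) ^ g = (-1) ^ (g - j) * (-1) ^ j := by rw [← pow_add, Nat.sub_add_cancel hj']
  have h4 : ((-1 : ℤ) ^ j) * (-1) ^ j = 1 := by rw [← mul_pow]; simp
  rw [h3]
  linear_combination (g.choose j : ℤ) * (j : ℤ) ^ g * (-1) ^ (g - j) * c * h4

end K450.RRPoly
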