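import Groth.Agent.FlatB.PushGlue
import Mathlib.AlgebraicGeometry.Morphisms.Separated

/-!
# Gluing local extensions of a section of a separated morphism over a reduced scheme
-/

set_option autoImplicit false
universe u
open CategoryTheory CategoryTheory.Limits AlgebraicGeometry

namespace K450.SecGlue

variable {Z S : Scheme.{u}} (f : Z ⟶ S)

/-- The inclusion of the intersection with a dense open is dominant. -/
theorem isDominant_homOfLE (U : S.Opens) (hU : Dense (U : Set S)) (V : S.Opens) :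
    IsDominant (S.homOfLE (inf_le_right : U ⊓ V ≤ V)) := by
  refine ⟨?_⟩
  rw [DenseRange, V.ι.isOpenEmbedding.isInducing.dense_iff]
  intro x
  have h1 : V.ι x ∈ closure ((U : Set S) ∩ V) := by
    have := V.isOpen.inter_closure (s := (V : Set S)) (t := (U : Set S)) ⟨x.2, hU x.1⟩
    rwa [Set.inter_comm] at this
  refine closure_mono ?_ h1
  rintro y ⟨hyU, hyV⟩
  let y' : ((U ⊓ V : S.Opens) : Scheme.{u}) := ⟨y, ⟨hyU, hyV⟩⟩
  exact ⟨S.homOfLE (inf_le_right : U ⊓ V ≤ V) y', ⟨_, rfl⟩,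
    congr($(Scheme.homOfLE_ι S (inf_le_right : U ⊓ V ≤ V)) y')⟩

/-- Two sections over opens which agree with a given one on a dense open agree on the overlap. -/
theorem agree [IsReduced S] [IsSeparated f] (U : S.Opens) (hU : Dense (U : Set S))
    (v : (U : Scheme.{u}) ⟶ Z) (V V' : S.Opens) (w : (V : Scheme.{u}) ⟶ Z) (w' : (V' : Scheme.{u}) ⟶ Z)
    (h1 : w ≫ f = V.ι) (h1' : w' ≫ f = V'.ι)
    (h2 : S.homOfLE (inf_le_right : U ⊓ V ≤ V) ≫ w = S.homOfLE (inf_le_left : U ⊓ V ≤ U) ≫ v)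
    (h2' : S.homOfLE (inf_le_right : U ⊓ V' ≤ V') ≫ w' = S.homOfLE (inf_le_left : U ⊓ V' ≤ U) ≫ v) :
    S.homOfLE (inf_le_left : V ⊓ V' ≤ V) ≫ w = S.homOfLE (inf_le_right : V ⊓ V' ≤ V') ≫ w' := by
  have hd := isDominant_homOfLE U hU (V ⊓ V')
  refine ext_of_isDominant_of_isSeparated f ?_ (S.homOfLE (inf_le_right : U ⊓ (V ⊓ V') ≤ V ⊓ V')) ?_
  · rw [Category.assoc, Category.assoc, h1, h1', Scheme.homOfLE_ι, Scheme.homOfLE_ι]
  · rw [Scheme.homOfLE_homOfLE_assoc, Scheme.homOfLE_homOfLE_assoc,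
      ← Scheme.homOfLE_homOfLE_assoc S (show U ⊓ (V ⊓ V') ≤ U ⊓ V from inf_le_inf_left _ inf_le_left)
      (inf_le_right : U ⊓ V ≤ V), h2,
      ← Scheme.homOfLE_homOfLE_assoc S (show U ⊓ (V ⊓ V') ≤ U ⊓ V' from inf_le_inf_left _ inf_le_right)
      (inf_le_right : U ⊓ V' ≤ V'), h2', Scheme.homOfLE_homOfLE_assoc, Scheme.homOfLE_homOfLE_assoc]

theorem exists_section [IsReduced S] [IsSeparated f] (U : S.Opens) (hU : Dense (U : Set S))
    (v : (U : Scheme.{u}) ⟶ Z) (hv : v ≫ f = U.ι)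
    (hloc : ∀ s : S, ∃ (V : S.Opens) (w : (V : Scheme.{u}) ⟶ Z), s ∈ V ∧ w ≫ f = V.ι ∧
      S.homOfLE (inf_le_right : U ⊓ V ≤ V) ≫ w = S.homOfLE (inf_le_left : U ⊓ V ≤ U) ≫ v) :
    ∃ w : S ⟶ Z, w ≫ f = 𝟙 S ∧ U.ι ≫ w = v := by
  let I : Type u := Σ V : S.Opens, {w : (V : Scheme.{u}) ⟶ Z // w ≫ f = V.ι ∧
      S.homOfLE (inf_le_right : U ⊓ V ≤ V) ≫ w = S.homOfLE (inf_le_left : U ⊓ V ≤ U) ≫ v}
  obtain ⟨w, hw⟩ := Groth.Agent.FlatB.PushGlue.exists_glue (X := S) (T := Z) (I := I)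
    (fun k => (k.1 : Scheme.{u})) (fun k => k.1.ι) (fun k => k.2.1)
    (fun x => by
      obtain ⟨V, w, hx, h1, h2⟩ := hloc x
      exact ⟨⟨V, w, h1, h2⟩, ⟨x, hx⟩, rfl⟩)
    (by
      rintro ⟨V, w, h1, h2⟩ ⟨V', w', h1', h2'⟩ x hx hx'
      have hxV : x ∈ V := by simpa using hx
      have hxV' : x ∈ V' := by simpa using hx'
      refine ⟨⟨V ⊓ V', S.homOfLE inf_le_left ≫ w, ?_, ?_⟩, S.homOfLE inf_le_left, S.homOfLE inf_le_right,
        Scheme.homOfLE_ι _ _, Scheme.homOfLE_ι _ _, ⟨⟨x, hxV, hxV'⟩, rfl⟩,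
        agree f U hU v V V' w w' h1 h1' h2 h2'⟩
      · rw [Category.assoc, h1, Scheme.homOfLE_ι]
      · rw [Scheme.homOfLE_homOfLE_assoc,
          ← Scheme.homOfLE_homOfLE_assoc S (show U ⊓ (V ⊓ V') ≤ U ⊓ V from inf_le_inf_left _ inf_le_left)
            (inf_le_right : U ⊓ V ≤ V), h2, Scheme.homOfLE_homOfLE_assoc])
  refine ⟨w, ?_, hw ⟨U, v, hv, rfl⟩⟩
  apply Scheme.hom_ext_of_forall
  intro s
  obtain ⟨V, w', hx, h1, h2⟩ := hloc s
  refine ⟨V, hx, ?_⟩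
  have h3 : V.ι ≫ w = w' := hw ⟨V, w', h1, h2⟩
  rw [reassoc_of% h3, h1, Category.comp_id]

end K450.SecGlue
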