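import Groth.Agent.AbVar.K527.TorsorPush
import Groth.Agent.ASBun.K790.Glue
import Groth.Agent.Fdesc.LocGen

/-!
# Split covers: base change, gluing of modules, the push forward of the structure sheaf
-/

set_option autoImplicit false
universe u

open CategoryTheory CategoryTheory.Limits AlgebraicGeometry Opposite TopologicalSpace

namespace K450.SplitPush

open K527.TorsorAlg K527.TorsorComm K527.TorsorPush

/-- `q` is a trivial cover with sheets `ι i`. -/
structure IsSplit {T S : Scheme.{u}} (q : T ⟶ S) {r : ℕ} (ι : Fin r → (S ⟶ T)) : Prop where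
  sec : ∀ i, ι i ≫ q = 𝟙 S
  imm : ∀ i, IsOpenImmersion (ι i)
  cov : ∀ x : T, ∃ i, x ∈ Set.range (ι i)
  dis : ∀ i k, i ≠ k → Disjoint (Set.range (ι i)) (Set.range (ι k))

section Sigma

theorem isSplit_of_iso {T S : Scheme.{u}} (q : T ⟶ S) {r : ℕ} (e : T ≅ ∐ fun _ : Fin r => S)
    (he : ∀ i : Fin r, Sigma.ι (fun _ : Fin r => S) i ≫ e.inv ≫ q = 𝟙 S) :
    IsSplit q (fun i => Sigma.ι (fun _ : Fin r => S) i ≫ e.inv) where
  sec i := by rw [Category.assoc, he]
  imm i := inferInstance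
  cov x := by
    obtain ⟨i, y, hy⟩ : ∃ i y, Sigma.ι (fun _ : Fin r => S) i y = e.hom x :=
      (sigmaOpenCover (fun _ : Fin r => S)).exists_eq (e.hom x)
    refine ⟨i, y, ?_⟩
    rw [Scheme.Hom.comp_apply, hy, ← Scheme.Hom.comp_apply, e.hom_inv_id]
    rfl
  dis i k hik := by
    rw [Set.disjoint_left]
    rintro x ⟨y, rfl⟩ ⟨z, hz⟩
    have h1 : Sigma.ι (fun _ : Fin r => S) i y = Sigma.ι (fun _ : Fin r => S) k z := by
      have := congrArg e.hom hz
      rw [← Scheme.Hom.comp_apply, ← Scheme.Hom.comp_apply, Category.assoc, Category.assoc, e.inv_hom_id,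
        Category.comp_id, Category.comp_id] at this
      exact this.symm
    have h2 := (sigmaι_eq_iff (fun _ : Fin r => S) i k y z).1 h1
    exact hik (by cases h2; rfl)

end Sigma

section BC

variable {T S T' S' : Scheme.{u}} {q : T ⟶ S} {r : ℕ} {ι : Fin r → (S ⟶ T)} (h : IsSplit q ι)
  {p' : T' ⟶ T} {q' : T' ⟶ S'} {p : S' ⟶ S} (H : IsPullback p' q' q p)

/-- The sheets of the base change. -/
noncomputable def lifts (i : Fin r) : S' ⟶ T' := H.lift (p ≫ ι i) (𝟙 S') (by rw [Category.assoc, h.sec, Category.id_comp, Category.comp_id])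

theorem lifts_fst (i : Fin r) : lifts h H i ≫ p' = p ≫ ι i := H.lift_fst _ _ _

theorem lifts_snd (i : Fin r) : lifts h H i ≫ q' = 𝟙 S' := H.lift_snd _ _ _

theorem isPullback_lifts (i : Fin r) : IsPullback p (lifts h H i) (ι i) p' := by
  refine ⟨⟨(lifts_fst h H i).symm⟩, ⟨PullbackCone.IsLimit.mk _ (fun s => s.snd ≫ q') ?_ ?_ ?_⟩⟩
  · intro s
    rw [Category.assoc, ← H.w]
    have := s.condition
    rw [← reassoc_of% this, h.sec, Category.comp_id]
  · intro s
    have h1 : (s.snd ≫ q') ≫ p = s.fst := by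
      rw [Category.assoc, ← H.w]
      have := s.condition
      rw [← reassoc_of% this, h.sec, Category.comp_id]
    apply H.hom_ext
    · rw [Category.assoc, lifts_fst, ← Category.assoc, h1, s.condition]
    · rw [Category.assoc, lifts_snd, Category.comp_id]
  · intro s m h1 h2
    rw [← h2, Category.assoc, lifts_snd, Category.comp_id]

theorem isSplit_lifts : IsSplit q' (lifts h H) where
  sec i := lifts_snd h H i
  imm i := by
    have := h.imm i
    exact MorphismProperty.of_isPullback (P := @IsOpenImmersion) (isPullback_lifts h H i) inferInstance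
  cov x := by
    obtain ⟨i, y, hy⟩ := h.cov (p' x)
    obtain ⟨z, -, hz⟩ := Scheme.exists_preimage_of_isPullback (isPullback_lifts h H i) y x hy
    exact ⟨i, z, hz⟩
  dis i k hik := by
    rw [Set.disjoint_left]
    rintro x ⟨y, rfl⟩ ⟨z, hz⟩
    have h1 : ∀ (i : Fin r) (y : S'), ι i (p y) = p' (lifts h H i y) := fun i y => by
      rw [← Scheme.Hom.comp_apply, ← Scheme.Hom.comp_apply, lifts_fst]
    refine Set.disjoint_left.1 (h.dis i k hik) ⟨p y, h1 i y⟩ ⟨p z, ?_⟩
    rw [h1, hz]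

end BC

section Free

variable {T S : Scheme.{u}} {q : T ⟶ S} {r : ℕ} {ι : Fin r → (S ⟶ T)} (h : IsSplit q ι)

theorem pb_comp {X Y Z : Scheme.{u}} {f : Y ⟶ X} {g : Z ⟶ Y} {k : Z ⟶ X} (hk : g ≫ f = k) (U : X.Opens)
    (V : Y.Opens) (W : Z.Opens) (e : V ≤ f ⁻¹ᵁ U) (e' : W ≤ g ⁻¹ᵁ V) (e'' : W ≤ k ⁻¹ᵁ U) (s : Γ(X, U)) :
    pb g V W e' (pb f U V e s) = pb k U W e'' s := by
  subst hk
  exact pb_pb f g U V W e e' s

theorem pb_self {X : Scheme.{u}} (U : X.Opens) (e : U ≤ (𝟙 X) ⁻¹ᵁ U) (s : Γ(X, U)) :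
    pb (𝟙 X) U U e s = s := by
  change ((𝟙 X : X ⟶ X).appLE U U e).hom s = s
  have : (𝟙 X : X ⟶ X).appLE U U e = 𝟙 _ := by
    rw [Scheme.Hom.appLE, Scheme.Hom.id_app]
    exact (Category.id_comp _).trans (X.presheaf.map_id _)
  rw [this]
  rfl

include h in
/-- A function which vanishes on all sheets is zero. -/
theorem eq_zero_of_app {W : T.Opens} (y : Γ(T, W)) (V : S.Opens) (hV : ∀ i, V ≤ (ι i) ⁻¹ᵁ W)
    (hW : ∀ i, (ι i) ⁻¹ᵁ W ≤ V) (hy : ∀ i, pb (ι i) W V (hV i) y = 0) : y = 0 := by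
  refine TopCat.Presheaf.section_ext T.sheaf W y 0 fun x hx => ?_
  obtain ⟨i, z, rfl⟩ := h.cov x
  have := h.imm i
  have h1 : Function.Injective ((ι i).stalkMap z).hom :=
    ((asIso ((ι i).stalkMap z)).commRingCatIsoToRingEquiv).injective
  refine h1 ?_
  have h2 := Scheme.Hom.germ_stalkMap_apply (ι i) W z hx y
  have h3 : (ι i).app W y = 0 := by
    have h4 := hy i
    have h5 : (ι i) ⁻¹ᵁ W = V := le_antisymm (hW i) (hV i)
    subst h5
    have h6 : (ι i).appLE W ((ι i) ⁻¹ᵁ W) le_rfl = (ι i).app W := Scheme.Hom.appLE_eq_app _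
    rw [← h6]
    exact h4
  change (ι i).stalkMap z (T.presheaf.germ W _ hx y) = (ι i).stalkMap z (T.presheaf.germ W _ hx 0)
  rw [map_zero, map_zero, h2, h3, map_zero]

include h in
/-- The idempotents of the sheets. -/
theorem exists_idem (i : Fin r) : ∃ e : Γ(T, ⊤), ∀ k, pb (ι k) ⊤ ⊤ le_top e = if k = i then 1 else 0 := by
  classical
  have himm := h.imm
  let U : Fin r → T.Opens := fun k => (ι k).opensRange
  have hcov : (⊤ : T.Opens) ≤ iSup U := fun x _ => by
    obtain ⟨k, hk⟩ := h.cov x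
    exact Opens.mem_iSup.2 ⟨k, hk⟩
  have hcomp : TopCat.Presheaf.IsCompatible T.presheaf U (fun k => (if k = i then 1 else 0 : Γ(T, U k))) := by
    intro k l
    by_cases hkl : k = l
    · subst hkl; rfl
    · refine TopCat.Presheaf.section_ext T.sheaf _ _ _ fun x hx => ?_
      exact (Set.disjoint_left.1 (h.dis k l hkl) hx.1 hx.2).elim
  obtain ⟨e, he⟩ : ∃ e : Γ(T, ⊤), ∀ k, T.presheaf.map (homOfLE (le_top : U k ≤ ⊤)).op e = if k = i then 1 else 0 := by
    obtain ⟨e, he, -⟩ := T.sheaf.existsUnique_gluing' U ⊤ (fun _ => homOfLE le_top) hcov _ hcomp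
    exact ⟨e, he⟩
  refine ⟨e, fun k => ?_⟩
  have hle : (⊤ : S.Opens) ≤ (ι k) ⁻¹ᵁ (U k) := by rintro x -; exact ⟨x, rfl⟩
  have h1 : pb (ι k) ⊤ ⊤ le_top e = (ι k).appLE (U k) ⊤ hle (T.presheaf.map (homOfLE (le_top : U k ≤ ⊤)).op e) := by
    have h2 := Scheme.Hom.map_appLE (ι k) hle (homOfLE (le_top : U k ≤ ⊤)).op
    exact congr($(h2.symm).hom e)
  rw [h1, he]
  split_ifs
  · rw [map_one]
  · rw [map_zero]

include h in
theorem bas (e : Fin r → Γ(T, ⊤)) (he : ∀ i k, pb (ι k) ⊤ ⊤ le_top (e i) = if k = i then 1 else 0) (V : S.Opens) :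
    Bas (pb q V (q ⁻¹ᵁ V) le_rfl) (fun x => pb (𝟙 T) ⊤ (q ⁻¹ᵁ V) le_top (e x)) := by
  classical
  have hV : ∀ k, V ≤ (ι k) ⁻¹ᵁ (q ⁻¹ᵁ V) := fun k => by
    rw [← Scheme.Hom.comp_preimage, h.sec k]; exact le_rfl
  have hW : ∀ k, (ι k) ⁻¹ᵁ (q ⁻¹ᵁ V) ≤ V := fun k => by
    rw [← Scheme.Hom.comp_preimage, h.sec k]; exact le_rfl
  have f1 : ∀ (k : Fin r) (a : Γ(S, V)), pb (ι k) (q ⁻¹ᵁ V) V (hV k) (pb q V (q ⁻¹ᵁ V) le_rfl a) = a :=
    fun k a => (pb_comp (h.sec k) V _ V _ _ le_rfl a).trans (pb_self V _ a)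
  have f2 : ∀ (k x : Fin r), pb (ι k) (q ⁻¹ᵁ V) V (hV k) (pb (𝟙 T) ⊤ (q ⁻¹ᵁ V) le_top (e x)) =
      if k = x then 1 else 0 := by
    intro k x
    refine (pb_comp (Category.comp_id (ι k)) ⊤ _ V _ _ le_top (e x)).trans ?_
    rw [← resO_pb (ι k) (le_top : (⊤ : S.Opens) ≤ _) (le_top : V ≤ ⊤), he]
    split_ifs
    · rw [map_one]
    · rw [map_zero]
  have key : ∀ (a : Fin r → Γ(S, V)) (k : Fin r),
      pb (ι k) (q ⁻¹ᵁ V) V (hV k) (∑ x, pb q V (q ⁻¹ᵁ V) le_rfl (a x) * pb (𝟙 T) ⊤ (q ⁻¹ᵁ V) le_top (e x)) = a k := by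
    intro a k
    rw [map_sum, Finset.sum_eq_single k]
    · rw [map_mul, f1, f2, if_pos rfl, mul_one]
    · intro x _ hx
      rw [map_mul, f2, if_neg (Ne.symm hx), mul_zero]
    · intro hk
      exact (hk (Finset.mem_univ k)).elim
  constructor
  · intro a b hab
    funext k
    rw [← key a k, ← key b k]
    exact congrArg _ hab
  · intro y
    refine ⟨fun k => pb (ι k) (q ⁻¹ᵁ V) V (hV k) y, ?_⟩
    rw [← sub_eq_zero]
    refine eq_zero_of_app h _ V hV hW fun k => ?_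
    rw [map_sub, key, sub_self]

include h in
theorem exists_iso_free : Nonempty ((Scheme.Modules.pushforward q).obj (Coh.structureModule T) ≅ FlatMod.freeMod S r) := by
  choose e he using exists_idem h
  have := isIso_phi q (𝟙 T) e (fun V _ => bas h e he V)
  exact ⟨(asIso (phi q (𝟙 T) e)).symm⟩

include h in
/-- A module on a trivial cover which is isomorphic to the structure sheaf on every sheet. -/
theorem exists_iso_structure (M : T.Modules)
    (hM : ∀ i, Nonempty ((Scheme.Modules.pullback (ι i)).obj M ≅ Coh.structureModule S)) :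
    Nonempty (M ≅ Coh.structureModule T) := by
  have himm := h.imm
  refine K790.Glue.nonempty_iso_of_disjoint' ι (fun x => h.cov x) (fun i k hik => ?_) fun i => ?_
  · ext x
    simp only [Opens.coe_inf, Opens.coe_bot, Set.mem_inter_iff, Set.mem_empty_iff_false, iff_false, not_and]
    exact fun h1 h2 => Set.disjoint_left.1 (h.dis i k hik) h1 h2
  · exact (Scheme.Modules.restrictFunctorIsoPullback (ι i)).app M ≪≫ (hM i).some ≪≫
      (Groth.Agent.Fga.UnitRestrict.pullbackUnitIso (ι i)).symm ≪≫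
      ((Scheme.Modules.restrictFunctorIsoPullback (ι i)).app (Coh.structureModule T)).symm

end Free

end K450.SplitPush
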