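import Groth.Agent.AbVar.K510.DenseAny
import Groth.Agent.AbSch.K450.FibMono
import Groth.Agent.Fga.HodgePush
import Groth.Agent.Ega3B.DevQC
import Groth.Agent.Fga.HodgeSec

/-!
# Sections of an invertible module on an abelian variety and torsion points

* `eq_zero_of_torsion`: a section vanishing on all `l`-power torsion points is zero (`l ≥ 2` invertible);
* `exists_injective`: restriction of sections to `A[l^n]` is injective for some `n`.
-/

set_option autoImplicit false
universe u

open CategoryTheory CategoryTheory.Limits MonoidalCategory CartesianMonoidalCategory MonObj AlgebraicGeometry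
open TopologicalSpace Groth.Agent.Fdesc.LocGen K248.BC0

namespace K450.TorsDense

open Groth.Agent.Books.AlgPts Groth.Agent.Books.AlgPtsGrp Groth.Agent K515.Bc Groth.Agent.Sga67.TorsionLift K510.DenseAny

variable {k : Type u} [Field k]

theorem univ_of_torsion (A : Over (Spec (CommRingCat.of k))) [GrpObj A]
    [IsProper A.hom] [GeometricallyIntegral A.hom] (l : ℕ) (hl : (l : k) ≠ 0) (hl2 : 2 ≤ l)
    (C : Set A.left) (hC : IsClosed C)
    (h : ∀ (n : ℕ) (T : Over (Spec (CommRingCat.of k))) (x : T ⟶ A), x ^ (l ^ n) = 1 → Set.range x.left ⊆ C) :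
    C = Set.univ := by
  let Ω := AlgebraicClosure k
  have hlΩ : (l : Ω) ≠ 0 := by
    have := (algebraMap k Ω).injective.ne hl
    rwa [map_natCast, map_zero] at this
  have hd := K510.Dense.dense (bc Ω A) l hlΩ hl2
  have hcl2 : IsClosed ((pr Ω A) ⁻¹' C) := hC.preimage (pr Ω A).continuous
  have hsub : pt '' (K510.Dense.torsSub (bc Ω A) l : Set (𝟙_ (Over (Spec (CommRingCat.of Ω))) ⟶ bc Ω A)) ⊆
      (pr Ω A) ⁻¹' C := by
    rintro _ ⟨x, ⟨n, hn⟩, rfl⟩
    refine h n _ (adjn Ω x) (by rw [← adjn_pow, hn, adjn_one]) ?_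
    refine ⟨(IsLocalRing.closedPoint Ω), ?_⟩
    rw [adjn_left]
    rfl
  have huniv : (pr Ω A) ⁻¹' C = Set.univ := by
    apply Set.eq_univ_of_univ_subset
    rw [← hd.closure_eq]
    exact hcl2.closure_subset_iff.2 hsub
  apply Set.eq_univ_of_univ_subset
  intro a _
  obtain ⟨b, rfl⟩ := (pr Ω A).surjective a
  have : b ∈ (pr Ω A) ⁻¹' C := by rw [huniv]; trivial
  exact this

/-- A section of an invertible module on a reduced scheme which generates nowhere is zero. -/
theorem eq_zero_of_genLocus {X : Scheme.{u}} [IsReduced X] {L : X.Modules} (hL : PicF.IsInvertible L)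
    (x : Γ(L, ⊤)) (h : CohB1.genLocus L (homOf x) = ⊥) : x = 0 := by
  choose U e hU he using (isInvertible_iff L).1 hL
  refine res_ext L U (fun _ => le_top) (fun p _ => Opens.mem_iSup.2 ⟨p, hU p⟩) fun p => ?_
  obtain ⟨a, ha⟩ := (he p).exists_eq (res L le_top x)
  have h1 := genLocus_inf_eq (homOf x) (he p) ((sec_homOf x (U p)).trans ha)
  rw [h, bot_inf_eq] at h1
  have h2 : a = 0 := (basicOpen_eq_bot_iff a).1 h1.symm
  rw [ha, h2, zero_smul, map_zero]

/-- Where the pullback of a section vanishes the section does not generate. -/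
theorem notMem_genLocus {X T : Scheme.{u}} {L : X.Modules} (y : T ⟶ X) (x : Γ(L, ⊤)) (h : pullSec y x = 0) (t : T) :
    y t ∉ CohB1.genLocus L (homOf x) := by
  intro ht
  have h1 := (isGen_sec_genLocus (homOf x)).pullSec y
  have h2 : pullSec y (sec (homOf x) (CohB1.genLocus L (homOf x))) = 0 := by
    rw [sec_homOf, ← res_pullSec, h, map_zero]
  rw [h2] at h1
  have h3 : (1 : Γ(T, y ⁻¹ᵁ CohB1.genLocus L (homOf x))) = 0 := h1.ext (by rw [smul_zero, smul_zero])
  have h4 := congrArg (T.presheaf.germ _ t ht) h3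
  rw [map_one, map_zero] at h4
  exact one_ne_zero h4

theorem eq_zero_of_torsion (A : Over (Spec (CommRingCat.of k))) [GrpObj A]
    [IsProper A.hom] [GeometricallyIntegral A.hom] (l : ℕ) (hl : (l : k) ≠ 0) (hl2 : 2 ≤ l)
    {L : A.left.Modules} (hL : PicF.IsInvertible L) (x : Γ(L, ⊤))
    (h : ∀ (n : ℕ) (T : Over (Spec (CommRingCat.of k))) (y : T ⟶ A), y ^ (l ^ n) = 1 → pullSec y.left x = 0) :
    x = 0 := by
  have hAi : IsIntegral A.left := GeometricallyIntegral.isIntegral_of_subsingleton A.hom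
  apply eq_zero_of_genLocus hL
  have h1 := univ_of_torsion A l hl hl2 ((CohB1.genLocus L (homOf x) : Set A.left)ᶜ)
    (CohB1.genLocus L (homOf x)).2.isClosed_compl (fun n T y hy => by
      rintro _ ⟨t, rfl⟩
      exact notMem_genLocus y.left x (h n T y hy) t)
  rw [Set.compl_univ_iff] at h1
  exact Opens.ext h1

theorem pullSec_eq_zero {T T' X : Scheme.{u}} {L : X.Modules} {U : X.Opens} {s : Γ(L, U)} {j' : T' ⟶ X} {j : T ⟶ X}
    (c : T ⟶ T') (hc : c ≫ j' = j) (h : pullSec j' s = 0) : pullSec j s = 0 := by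
  subst hc
  rw [← pullSec_comp', h]
  have : (pullSec c (0 : Γ((Scheme.Modules.pullback j').obj L, j' ⁻¹ᵁ U))) = 0 :=
    map_zero (((Scheme.Modules.pullbackPushforwardAdjunction c).unit.app _).app _).hom
  rw [this]
  exact map_zero _

theorem isArtinianRing_top (k : Type u) [Field k] : IsArtinianRing Γ(Spec (CommRingCat.of k), ⊤) :=
  Function.Surjective.isArtinianRing (f := (Scheme.ΓSpecIso (CommRingCat.of k)).inv.hom)
    (ConcreteCategory.bijective_of_isIso (Scheme.ΓSpecIso (CommRingCat.of k)).inv).2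

/-- Sections vanishing on `T`. -/
noncomputable def vanSub {T X S : Scheme.{u}} (f : X ⟶ S) (L : X.Modules) (j : T ⟶ X) :
    Submodule Γ(S, ⊤) Γ((Scheme.Modules.pushforward f).obj L, ⊤) where
  carrier := {m | pullSec j ((toPush f L ⊤).symm m) = 0}
  add_mem' {a b} ha hb := by
    change pullSec j _ = 0
    rw [map_add, pullSec_add]
    rw [show pullSec j ((toPush f L ⊤).symm a) = 0 from ha, show pullSec j ((toPush f L ⊤).symm b) = 0 from hb, add_zero]
  zero_mem' := map_zero (((Scheme.Modules.pullbackPushforwardAdjunction j).unit.app _).app _).hom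
  smul_mem' a m hm := by
    obtain ⟨s, rfl⟩ := (toPush f L ⊤).surjective m
    change pullSec j ((toPush f L ⊤).symm (a • toPush f L ⊤ s)) = 0
    rw [← toPush_smul, AddEquiv.symm_apply_apply, pullSec_smul]
    have : pullSec j s = 0 := hm
    rw [this, smul_zero]

/-- Restriction of sections to `T n` is injective for `n` large, if the `T n` contain all `l`-power torsion. -/
theorem exists_injective (A : Over (Spec (CommRingCat.of k))) [GrpObj A]
    [IsProper A.hom] [GeometricallyIntegral A.hom] (l : ℕ) (hl : (l : k) ≠ 0) (hl2 : 2 ≤ l)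
    {L : A.left.Modules} (hL : PicF.IsInvertible L) (T : ℕ → Scheme.{u}) (j : ∀ n, T n ⟶ A.left)
    (hj : ∀ (n : ℕ) (T' : Over (Spec (CommRingCat.of k))) (y : T' ⟶ A), y ^ (l ^ n) = 1 →
      ∃ z : T'.left ⟶ T n, z ≫ j n = y.left)
    (hc : ∀ n, ∃ c : T n ⟶ T (n + 1), c ≫ j (n + 1) = j n) :
    ∃ n, ∀ x : Γ(L, ⊤), pullSec (j n) x = 0 → x = 0 := by
  have hcoh := Groth.Agent.Fga.HodgePush.isCoh_push A.hom (Groth.Agent.Fga.HodgeSec.isCoh_of_isInvertible hL)
  have hfin := Groth.Agent.Ega3B.DevQC.finite_sections hcoh (isAffineOpen_top (Spec (CommRingCat.of k)))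
  have hart := isArtinianRing_top k
  have hmod : IsArtinian Γ(Spec (CommRingCat.of k), ⊤) Γ((Coh.push A.hom).obj L, ⊤) := inferInstance
  let V : ℕ → Submodule Γ(Spec (CommRingCat.of k), ⊤) Γ((Coh.push A.hom).obj L, ⊤) :=
    fun n => vanSub A.hom L (j n)
  have hanti : ∀ n, V (n + 1) ≤ V n := by
    intro n m hm
    obtain ⟨c, hc⟩ := hc n
    exact pullSec_eq_zero c hc hm
  let F : ℕ →o (Submodule Γ(Spec (CommRingCat.of k), ⊤) Γ((Coh.push A.hom).obj L, ⊤))ᵒᵈ :=
    ⟨fun n => OrderDual.toDual (V n), monotone_nat_of_le_succ fun n => hanti n⟩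
  obtain ⟨n, hn⟩ := IsArtinian.monotone_stabilizes F
  refine ⟨n, fun x hx => ?_⟩
  refine eq_zero_of_torsion A l hl hl2 hL x fun m T' y hy => ?_
  have h1 : toPush A.hom L ⊤ x ∈ V m := by
    have h2 : toPush A.hom L ⊤ x ∈ V n := hx
    rcases le_total n m with h | h
    · have h3 : V n = V m := hn m h
      rwa [← h3]
    · have h3 : V n ≤ V m := F.monotone h
      exact h3 h2
  obtain ⟨z, hz⟩ := hj m T' y hy
  exact pullSec_eq_zero z hz h1

end K450.TorsDense
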