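import Groth.Agent.AbSch.K450.TorsDense
import Groth.Agent.AbSch.K450.OpenMono
import Groth.Agent.AgPol.K814.AbBasic
import Groth.Agent.AbVar.K517.SubAV
import Groth.Agent.AbSch.K448.FibreBC
import Groth.Agent.AbVar.K511.AmpleVan
import Groth.Agent.Ega3B.NearFibre
import Groth.Agent.PerfB.PushFLF

/-!
# The kernel of multiplication by `N` on an abelian scheme and restriction of sections
-/

set_option autoImplicit false
universe u

open CategoryTheory CategoryTheory.Limits MonoidalCategory CartesianMonoidalCategory MonObj AlgebraicGeometry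
open TopologicalSpace Groth.Agent.Fdesc.LocGen K248.BC0

namespace K450.TorsKer

variable {S : Scheme.{u}} (A : Over S) [GrpObj A] (N : ℕ)

/-- The kernel of multiplication by `N`. -/
noncomputable abbrev T : Scheme.{u} := pullback (𝟙 A ^ N : A ⟶ A).left (η[A] : 𝟙_ (Over S) ⟶ A).left

/-- Its inclusion. -/
noncomputable abbrev j : T A N ⟶ A.left := pullback.fst _ _

/-- Its structure morphism. -/
noncomputable abbrev t : T A N ⟶ S := pullback.snd (𝟙 A ^ N : A ⟶ A).left (η[A] : 𝟙_ (Over S) ⟶ A).left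

theorem j_hom : j A N ≫ A.hom = t A N := by
  have h1 : j A N ≫ (𝟙 A ^ N : A ⟶ A).left = t A N ≫ (η[A] : 𝟙_ (Over S) ⟶ A).left := pullback.condition
  have h2 := congrArg (fun z => z ≫ A.hom) h1
  simp only [Category.assoc, Over.w] at h2
  rw [h2]
  exact Category.comp_id _

/-- The universal `N`-torsion point. -/
noncomputable def tor : Over.mk (t A N) ⟶ A := Over.homMk (j A N) (j_hom A N)

theorem tor_pow : tor A N ^ N = 1 := by
  have h : tor A N ≫ (𝟙 A ^ N) = 1 := by
    ext
    change j A N ≫ (𝟙 A ^ N : A ⟶ A).left = _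
    rw [pullback.condition]
    rfl
  rwa [comp_pow, Category.comp_id] at h

theorem exists_lift {W : Over S} (x : W ⟶ A) (hx : x ^ N = 1) : ∃ c : W.left ⟶ T A N, c ≫ j A N = x.left := by
  have h : x ≫ (𝟙 A ^ N) = 1 := by rw [comp_pow, Category.comp_id, hx]
  refine ⟨pullback.lift x.left W.hom ?_, pullback.lift_fst _ _ _⟩
  have h2 := congrArg CommaMorphism.left h
  exact h2

theorem exists_factor {N M : ℕ} (h : N ∣ M) : ∃ c : T A N ⟶ T A M, c ≫ j A M = j A N := by
  obtain ⟨r, rfl⟩ := h
  exact exists_lift A (N * r) (tor A N) (by rw [pow_mul, tor_pow, one_pow])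

theorem comp_aux {X Y Z W : Scheme.{u}} (f : X ⟶ Z) (s : Y ⟶ Z) (y : W ⟶ pullback f s) :
    (y ≫ pullback.fst f s) ≫ f = (y ≫ pullback.snd f s) ≫ s := by
  rw [Category.assoc, Category.assoc, pullback.condition]

section BC

attribute [local instance] Functor.grpObjObj

/-- An `N`-torsion point of a base change gives an `N`-torsion point. -/
theorem adj_pow {S' : Scheme.{u}} (s : S' ⟶ S) {T' : Over S'} (y : T' ⟶ (Over.pullback s).obj A) (hy : y ^ N = 1)
    (x : Over.mk (T'.hom ≫ s) ⟶ A) (hx : x.left = y.left ≫ pullback.fst A.hom s) : x ^ N = 1 := by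
  have key : ∀ a : A ⟶ A, (x ≫ a).left = (y ≫ (Over.pullback s).map a).left ≫ pullback.fst A.hom s := by
    intro a
    rw [Over.comp_left, Over.comp_left, Category.assoc, hx, Category.assoc,
      (K448.FibreBC.isPullback_map_left s a).w]
  have h0 : (Over.pullback s).map (1 : A ⟶ A) = 1 := by
    have := K517.SubAV.map_pow_one s A 0
    rwa [pow_zero, pow_zero] at this
  have h1 : x ≫ (𝟙 A ^ N) = x ≫ 1 := by
    ext
    rw [key, key, K517.SubAV.map_pow_one, h0, comp_pow, Category.comp_id, hy, comp_one]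
  rwa [comp_pow, Category.comp_id, comp_one] at h1

end BC

section AbSch

variable [Smooth A.hom] [IsProper A.hom] [GeometricallyConnected A.hom]

theorem isFinite_t (hN : IsUnit (N : Γ(S, ⊤))) : IsFinite (t A N) := by
  have := K814.AbBasic.isFinite_pow A hN
  infer_instance

theorem etale_t (hN : IsUnit (N : Γ(S, ⊤))) : Etale (t A N) := by
  have := K814.AbBasic.etale_pow A hN
  infer_instance

attribute [local instance] Functor.grpObjObj in
theorem exists_good (s : S) (h2 : IsUnit (2 : Γ(S, ⊤))) {L : A.left.Modules} (hL : PicF.IsInvertible L) :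
    ∃ n, ∀ x : Γ((Scheme.Modules.pullback (A.hom.fiberι s)).obj L, ⊤),
      pullSec (pullback.snd (j A (2 ^ n)) (A.hom.fiberι s)) x = 0 → x = 0 := by
  have hgi := K814.AbBasic.geometricallyIntegral A
  let G := (Over.pullback (S.fromSpecResidueField s)).obj A
  have h1 : IsProper G.hom := inferInstanceAs (IsProper (pullback.snd A.hom (S.fromSpecResidueField s)))
  have h3 : GeometricallyIntegral G.hom :=
    inferInstanceAs (GeometricallyIntegral (pullback.snd A.hom (S.fromSpecResidueField s)))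
  have h4 : ((2 : ℕ) : S.residueField s) ≠ 0 := K814.AbBasic.residue_ne_zero (by exact_mod_cast h2) s
  refine TorsDense.exists_injective (k := S.residueField s) G 2 h4 le_rfl
    (L := (Scheme.Modules.pullback (A.hom.fiberι s)).obj L)
    (Groth.Agent.Fdesc.LocGen.isInvertible_pullback _ hL) (fun n => pullback (j A (2 ^ n)) (A.hom.fiberι s))
    (fun n => pullback.snd (j A (2 ^ n)) (A.hom.fiberι s)) ?_ ?_
  · intro n T' y hy
    have hw : (y.left ≫ A.hom.fiberι s) ≫ A.hom = T'.hom ≫ S.fromSpecResidueField s := by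
      have h5 : y.left ≫ pullback.snd A.hom (S.fromSpecResidueField s) = T'.hom := Over.w y
      rw [← h5]
      exact comp_aux A.hom (S.fromSpecResidueField s) y.left
    let x : Over.mk (T'.hom ≫ S.fromSpecResidueField s) ⟶ A := Over.homMk (y.left ≫ A.hom.fiberι s) hw
    obtain ⟨c, hc⟩ := exists_lift A (2 ^ n) x (adj_pow A (2 ^ n) (S.fromSpecResidueField s) y hy x rfl)
    exact ⟨pullback.lift c y.left hc, pullback.lift_snd _ _ _⟩
  · intro n
    obtain ⟨c, hc⟩ := exists_factor A (pow_dvd_pow 2 (Nat.le_succ n))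
    exact ⟨pullback.map _ _ _ _ c (𝟙 _) (𝟙 _) (by rw [Category.comp_id, hc]) (by simp),
      (pullback.lift_snd _ _ _).trans (Category.comp_id _)⟩

theorem isFinLocFree_push (hN : IsUnit (N : Γ(S, ⊤))) {M : (T A N).Modules} (hM : FlatMod.IsFinLocFree M) :
    FlatMod.IsFinLocFree ((Scheme.Modules.pushforward A.hom).obj ((Scheme.Modules.pushforward (j A N)).obj M)) := by
  have h1 := isFinite_t A N hN
  have h2 := etale_t A N hN
  have h3 : IsFinite (j A N ≫ A.hom) := by rw [j_hom]; exact h1
  have h4 : Etale (j A N ≫ A.hom) := by rw [j_hom]; exact h2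
  exact Groth.Agent.Dcoh.LocalD.isFinLocFree_of_iso ((Scheme.Modules.pushforwardComp (j A N) A.hom).app M).symm
    (Groth.Agent.PerfB.PushFLF.isFinLocFree_pushforward (j A N ≫ A.hom) hM)

theorem isUnit_pow (h2 : IsUnit (2 : Γ(S, ⊤))) (n : ℕ) : IsUnit ((2 ^ n : ℕ) : Γ(S, ⊤)) := by
  rw [Nat.cast_pow, Nat.cast_ofNat]
  exact h2.pow n

/-- Restriction of sections to `A[2^n]` is a split injection locally on the base, for `n` large. -/
theorem exists_mono [CompactSpace S] (h2 : IsUnit (2 : Γ(S, ⊤))) {L : A.left.Modules} (hL : PicF.IsInvertible L)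
    (hE : FlatMod.IsFinLocFree ((Scheme.Modules.pushforward A.hom).obj L))
    (hbc : ∀ s : S, Mono (CohBC.bc0 A.hom (S.fromSpecResidueField s) (A.hom.fiberToSpecResidueField s)
      (A.hom.fiberι s) (A.hom.fiber_fac s) L)) :
    ∃ n, Mono (FibMono.phi (j A (2 ^ n)) A.hom L) ∧
      FlatMod.IsFinLocFree (cokernel (FibMono.phi (j A (2 ^ n)) A.hom L)) := by
  refine OpenMono.exists_forall_mono hE _ (fun n => isFinLocFree_push A (2 ^ n) (isUnit_pow h2 n) ?_)
    (fun n => FibMono.phi (j A (2 ^ n)) A.hom L) ?_ ?_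
  · exact Groth.Agent.Ega3B.NearFibre.isFinLocFree_of_isInvertible
      (Groth.Agent.Fdesc.LocGen.isInvertible_pullback _ hL)
  · intro m m' hm
    obtain ⟨c, hc⟩ := exists_factor A (pow_dvd_pow 2 hm)
    exact FibMono.exists_rho _ _ _ _ c hc
  · intro s
    obtain ⟨n, hn⟩ := exists_good A s h2 hL
    have := hbc s
    exact ⟨n, FibMono.mono_pull (j A (2 ^ n)) A.hom L (S.fromSpecResidueField s) (A.hom.fiberToSpecResidueField s)
      (A.hom.fiberι s) (A.hom.fiber_fac s) (pullback.snd (j A (2 ^ n)) (A.hom.fiberι s)) (pullback.fst _ _)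
      pullback.condition hn⟩

end AbSch

end K450.TorsKer
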