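import Groth.Agent.AbSch.K450.TorsKer
import Groth.Agent.AbSch.K449.Cube
import Groth.Agent.AbSch.K451.PowCube
import Groth.Agent.PicF.K885.Cyc
import Groth.Agent.Picfga.HilbZero

/-!
# Torsion classes

* `pull_j_pow`: a rigidified symmetric class on an abelian scheme restricts to a class killed by `N^2` on `A[N]`;
* `exists_kill`: finitely many torsion classes of invertible order die on a finite étale surjective cover.
-/

set_option autoImplicit false
universe u

open CategoryTheory CategoryTheory.Limits MonoidalCategory CartesianMonoidalCategory MonObj GrpObj AlgebraicGeometry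
open TopologicalSpace Groth.Agent Groth.Agent.Grpsch Groth.Agent.Grpsch.PicGrp

namespace K450.TorsTriv

variable {S : Scheme.{u}} (A : Over S) [GrpObj A]
variable [Smooth A.hom] [IsProper A.hom] [GeometricallyConnected A.hom]

theorem pull_j_pow (N : ℕ) (c : Pic A.left) (hrig : pull (η[A] : 𝟙_ (Over S) ⟶ A).left c = 1)
    (hsym : pull (𝟙 A ^ (-1 : ℤ) : A ⟶ A).left c = c) : pull (TorsKer.j A N) c ^ (N ^ 2) = 1 := by
  have := Groth.Agent.Flat2B.SmoothGeom.geometricallyReduced_of_smooth A.hom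
  have hcube : K451.PowCube.CubeFor c (Over.mk (TorsKer.t A N)) := fun a b d => K449.Cube.cube c a b d
  have h := K451.PowCube.pl_zpow hcube (TorsKer.tor A N) N
  have h1 : K451.PowCube.pl (1 : Over.mk (TorsKer.t A N) ⟶ A) c = 1 := by
    have h2 : (1 : Over.mk (TorsKer.t A N) ⟶ A) = toUnit _ ≫ η[A] := rfl
    rw [h2, K451.PowCube.pl_comp]
    unfold K451.PowCube.pl
    rw [hrig, map_one]
  have h3 : K451.PowCube.pl (TorsKer.tor A N)⁻¹ c = K451.PowCube.pl (TorsKer.tor A N) c := by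
    have h4 : (TorsKer.tor A N)⁻¹ = TorsKer.tor A N ≫ (𝟙 A ^ (-1 : ℤ)) := by
      rw [zpow_neg_one, comp_inv, Category.comp_id]
    rw [h4, K451.PowCube.pl_comp]
    unfold K451.PowCube.pl
    rw [hsym]
  rw [zpow_natCast, TorsKer.tor_pow, h1, h3, one_pow, _root_.mul_one, _root_.mul_one, ← pow_add, K451.PowCube.toNat_add_toNat,
    Int.natAbs_natCast] at h
  exact h.symm

variable {X : Scheme.{u}}

theorem exists_kill_one (c : Pic X) (n : ℕ) (hn : 0 < n) (hu : IsUnit (n : Γ(X, ⊤))) (hc : c ^ n = 1) :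
    ∃ (X' : Scheme.{u}) (g : X' ⟶ X), IsFinite g ∧ Etale g ∧ Surjective g ∧ pull g c = 1 := by
  obtain ⟨L, hL, rfl⟩ := exists_mk c
  rw [← mk_tensorPow, mk_eq_one_iff] at hc
  obtain ⟨τ⟩ := hc
  obtain ⟨G, g, F, -, h1, h2, -⟩ := K885.Cyc.exists_cyc τ hL hn
  obtain ⟨ψ, -⟩ := Groth.Agent.Picfga.LineFam.Fam.exists_ofIso hL F
  refine ⟨G, g, h1.1.1, h2 hu, Groth.Agent.Picfga.HilbZero.surjective_of_isFinLocFreeOfDeg g hn h1, ?_⟩
  rw [pull_mk, mk_eq_one_iff]
  exact ⟨ψ⟩

theorem exists_kill {r : ℕ} (c : Fin r → Pic X) (n : ℕ) (hn : 0 < n) (hu : IsUnit (n : Γ(X, ⊤)))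
    (hc : ∀ i, c i ^ n = 1) :
    ∃ (X' : Scheme.{u}) (g : X' ⟶ X), IsFinite g ∧ Etale g ∧ Surjective g ∧ ∀ i, pull g (c i) = 1 := by
  induction r with
  | zero => exact ⟨X, 𝟙 X, inferInstance, inferInstance, inferInstance, fun i => i.elim0⟩
  | succ r ih =>
    obtain ⟨X₁, g₁, h1, h2, h3, h4⟩ := ih (fun i => c i.castSucc) (fun i => hc _)
    have hu' : IsUnit (n : Γ(X₁, ⊤)) := by
      have := hu.map g₁.appTop.hom
      rwa [map_natCast] at this
    obtain ⟨X₂, g₂, h5, h6, h7, h8⟩ := exists_kill_one (pull g₁ (c (Fin.last r))) n hn hu'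
      (by rw [← map_pow, hc, map_one])
    refine ⟨X₂, g₂ ≫ g₁, inferInstance, inferInstance, inferInstance, fun i => ?_⟩
    refine Fin.lastCases ?_ (fun i => ?_) i
    · rw [pull_comp, h8]
    · rw [pull_comp, h4, map_one]

end K450.TorsTriv
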