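import Groth.Agent.AbSch.K450.VanBC
import Groth.Agent.AbSch.K450.SplitPush
import Groth.Agent.AbSch.K450.TorsTriv
import Groth.Agent.Pi1.H384.SplitCover
import Groth.Agent.S10858
import Groth.Agent.PerfB.FlatPull

/-!
# The embedding of `π^* f_* L` in a free module over a finite étale cover
-/

set_option autoImplicit false
universe u

open CategoryTheory CategoryTheory.Limits MonoidalCategory CartesianMonoidalCategory MonObj GrpObj AlgebraicGeometry
open TopologicalSpace Groth.Agent Groth.Agent.Grpsch Groth.Agent.Grpsch.PicGrp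

namespace K450.TorsMono

theorem mono_iff_of_natIso {C D : Type*} [Category C] [Category D] {F G : C ⥤ D} (α : F ≅ G) {X Y : C} (f : X ⟶ Y)
    [Mono (F.map f)] : Mono (G.map f) := by
  have h : G.map f = α.inv.app X ≫ F.map f ≫ α.hom.app Y := by
    rw [α.hom.naturality, α.inv_hom_id_app_assoc]
  rw [h]
  infer_instance

/-- Pull back of a locally split monomorphism. -/
theorem mono_pull_comp {S S' : Scheme.{u}} {U E : S.Modules} (hU : CohB1.IsFT U) (hE : FlatMod.IsFinLocFree E)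
    (φ : U ⟶ E) (h1 : Mono φ) (h2 : FlatMod.IsFinLocFree (cokernel φ)) (π : S' ⟶ S) {G : S'.Modules}
    (hG : FlatMod.IsFinLocFree G) (e : (Scheme.Modules.pullback π).obj E ≅ G)
    (hU' : CohB1.IsFT ((Scheme.Modules.pullback π).obj U)) :
    Mono ((Scheme.Modules.pullback π).map φ ≫ e.hom) ∧
      FlatMod.IsFinLocFree (cokernel ((Scheme.Modules.pullback π).map φ ≫ e.hom)) := by
  rw [(Groth.Agent.S10858.result hU' hG _).1]
  intro T f
  have h3 := ((Groth.Agent.S10858.result hU hE φ).1.1 ⟨h1, h2⟩) T (f ≫ π)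
  have h4 := mono_iff_of_natIso (Scheme.Modules.pullbackComp f π).symm φ
  rw [Functor.map_comp]
  change Mono ((Scheme.Modules.pullback f).map ((Scheme.Modules.pullback π).map φ)) at h4
  infer_instance

/-- A finite étale morphism to a connected scheme is split by a finite étale surjective one. -/
theorem exists_split {T S : Scheme.{u}} [ConnectedSpace S] (q : T ⟶ S) [IsFinite q] [Etale q] :
    ∃ (S₁ : Scheme.{u}) (π : S₁ ⟶ S), IsFinite π ∧ Etale π ∧ Surjective π ∧
      ∃ (r : ℕ) (sh : Fin r → (S₁ ⟶ pullback q π)), SplitPush.IsSplit (pullback.snd q π) sh := by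
  let T' : FEt.Cat S := MorphismProperty.Over.mk ⊤ q ⟨inferInstance, inferInstance⟩
  obtain ⟨Y₁, -, -, hsurj, J, hJ, e, he⟩ := Groth.Agent.Pi1.H384.SplitCover.exists_split T'
  have f1 : IsFinite Y₁.hom := Y₁.prop.1
  have f2 : Etale Y₁.hom := Y₁.prop.2
  refine ⟨Y₁.left, Y₁.hom, f1, inferInstance, hsurj, ?_⟩
  obtain ⟨n, ⟨ε⟩⟩ := Finite.exists_equiv_fin J
  let e' : pullback q Y₁.hom ≅ ∐ fun _ : J => Y₁.left := e
  have he' : ∀ i, Sigma.ι (fun _ : J => Y₁.left) i ≫ e'.inv ≫ pullback.snd q Y₁.hom = 𝟙 _ := he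
  let r : (∐ fun _ : Fin n => Y₁.left) ≅ ∐ fun _ : J => Y₁.left := Sigma.reindex ε.symm (fun _ : J => Y₁.left)
  have hr : ∀ i, Sigma.ι (fun _ : Fin n => Y₁.left) i ≫ r.hom = Sigma.ι (fun _ : J => Y₁.left) (ε.symm i) :=
    fun i => Sigma.ι_reindex_hom ε.symm (fun _ : J => Y₁.left) i
  have hfin : ∀ i : Fin n, Sigma.ι (fun _ : Fin n => Y₁.left) i ≫ (e' ≪≫ r.symm).inv ≫ pullback.snd q Y₁.hom = 𝟙 _ := by
    intro i
    rw [Iso.trans_inv, Iso.symm_inv, Category.assoc, reassoc_of% (hr i)]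
    exact he' _
  exact ⟨n, _, SplitPush.isSplit_of_iso (pullback.snd q Y₁.hom) (e' ≪≫ r.symm) hfin⟩

/-- The push forward of a module whose restriction to the sheets is trivial. -/
theorem exists_iso {T S S₁ S' : Scheme.{u}} (q : T ⟶ S) [IsAffineHom q] (π₁ : S₁ ⟶ S) {r : ℕ}
    {sh : Fin r → (S₁ ⟶ pullback q π₁)} (h : SplitPush.IsSplit (pullback.snd q π₁) sh) (g : S' ⟶ S₁)
    {M : T.Modules} (hM : PicF.IsInvertible M)
    (hc : ∀ i, pull g (pull (sh i ≫ pullback.fst q π₁) (mk M hM)) = 1) :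
    Nonempty ((Scheme.Modules.pullback (g ≫ π₁)).obj ((Scheme.Modules.pushforward q).obj M) ≅ FlatMod.freeMod S' r) := by
  let a := pullback.fst (pullback.snd q π₁) g
  let q' := pullback.snd (pullback.snd q π₁) g
  have H : IsPullback a q' (pullback.snd q π₁) g := IsPullback.of_hasPullback _ _
  have H2 : IsPullback (a ≫ pullback.fst q π₁) q' q (g ≫ π₁) := H.paste_horiz (IsPullback.of_hasPullback q π₁)
  have hs := SplitPush.isSplit_lifts h H
  have hq : Coh.IsQCoh M := Groth.Agent.Ega2.QCohLocal.isQCoh_of_isInvertible hM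
  obtain ⟨e₁⟩ := Groth.Agent.CohqA.AffineBaseChange.nonempty_iso H2 M
  obtain ⟨e₂⟩ := SplitPush.exists_iso_structure hs ((Scheme.Modules.pullback (a ≫ pullback.fst q π₁)).obj M) fun i => by
    have h1 : pull (SplitPush.lifts h H i) (pull (a ≫ pullback.fst q π₁) (mk M hM)) = 1 := by
      rw [← pull_comp, ← Category.assoc, SplitPush.lifts_fst h H i, Category.assoc, pull_comp, hc]
    rw [pull_mk, pull_mk, mk_eq_one_iff] at h1
    exact h1
  obtain ⟨e₃⟩ := SplitPush.exists_iso_free hs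
  exact ⟨e₁ ≪≫ (Scheme.Modules.pushforward q').mapIso e₂ ≪≫ e₃⟩

section AbSch

variable {S : Scheme.{u}} [ConnectedSpace S] [CompactSpace S] (A : Over S) [GrpObj A] [Smooth A.hom] [IsProper A.hom]
  [GeometricallyConnected A.hom]

theorem exists_cover {L : A.left.Modules} (hL : PicF.IsInvertible L)
    (hrig : Nonempty ((Scheme.Modules.pullback η[A].left).obj L ≅ Coh.structureModule S))
    (hsym : Nonempty ((Scheme.Modules.pullback (𝟙 A ^ (-1 : ℤ)).left).obj L ≅ L))
    (hamp : RelAmple.IsRelAmple A.hom L) (hE : FlatMod.IsFinLocFree ((Scheme.Modules.pushforward A.hom).obj L))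
    (h2 : IsUnit (2 : Γ(S, ⊤))) :
    ∃ (S' : Scheme.{u}) (π : S' ⟶ S), IsFinite π ∧ Etale π ∧ Surjective π ∧
      ∃ (r : ℕ) (v : (Scheme.Modules.pullback π).obj ((Scheme.Modules.pushforward A.hom).obj L) ⟶ FlatMod.freeMod S' r),
        Mono v ∧ FlatMod.IsFinLocFree (cokernel v) := by
  obtain ⟨n, hφ, hcok⟩ := TorsKer.exists_mono A h2 hL hE fun s => by
    have := VanBC.isIso_bc0 A hL hamp s
    infer_instance
  have hN := TorsKer.isUnit_pow h2 n
  have hq1 := TorsKer.isFinite_t A (2 ^ n) hN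
  have hq2 := TorsKer.etale_t A (2 ^ n) hN
  let q := TorsKer.t A (2 ^ n)
  let j := TorsKer.j A (2 ^ n)
  have hjf : j ≫ A.hom = q := TorsKer.j_hom A (2 ^ n)
  let M := (Scheme.Modules.pullback j).obj L
  have hM : PicF.IsInvertible M := Groth.Agent.Fdesc.LocGen.isInvertible_pullback _ hL
  obtain ⟨S₁, π₁, h3, h4, h5, r, sh, hsh⟩ := exists_split q
  have hcM : mk M hM ^ ((2 ^ n) ^ 2) = 1 := by
    have h6 := TorsTriv.pull_j_pow A (2 ^ n) (mk L hL)
      (by rw [pull_mk, mk_eq_one_iff]; exact hrig) (by rw [pull_mk, mk_eq_iff]; exact hsym)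
    rwa [pull_mk] at h6
  have hu : IsUnit (((2 ^ n) ^ 2 : ℕ) : Γ(S₁, ⊤)) := by
    have h6 := (hN.pow 2).map π₁.appTop.hom
    rwa [← Nat.cast_pow, map_natCast] at h6
  obtain ⟨S', g, h7, h8, h9, h10⟩ := TorsTriv.exists_kill
    (fun i => pull (sh i ≫ pullback.fst q π₁) (mk M hM)) ((2 ^ n) ^ 2) (by positivity) hu
    (fun i => by rw [← map_pow, hcM, map_one])
  obtain ⟨e⟩ := exists_iso q π₁ hsh g hM h10
  let e₀ : (Scheme.Modules.pushforward A.hom).obj ((Scheme.Modules.pushforward j).obj M) ≅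
      (Scheme.Modules.pushforward q).obj M :=
    (Scheme.Modules.pushforwardComp j A.hom).app M ≪≫ (Scheme.Modules.pushforwardCongr hjf).app M
  have hE' := PerfB.FlatPull.isFinLocFree_pullback (g ≫ π₁) hE
  have h11 := mono_pull_comp (Groth.Agent.Dcoh.FTFP.isFT_of_epi_finLocFree hE (𝟙 _))
    (TorsKer.isFinLocFree_push A (2 ^ n) hN (Groth.Agent.Ega3B.NearFibre.isFinLocFree_of_isInvertible hM)) _
    hφ hcok (g ≫ π₁) (PerfA.PerfLocal.isFinLocFree_freeMod _ _)
    ((Scheme.Modules.pullback (g ≫ π₁)).mapIso e₀ ≪≫ e) (Groth.Agent.Dcoh.FTFP.isFT_of_epi_finLocFree hE' (𝟙 _))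
  exact ⟨S', g ≫ π₁, inferInstance, inferInstance, inferInstance, r, _, h11⟩

end AbSch

end K450.TorsMono
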